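import Cfsg.Agent.Known.SLMinDegree.Root

/-! Alternating matrices and their linear functionals, up to the action of the linear group. -/

set_option autoImplicit false
set_option linter.unusedSectionVars false

open Matrix Cfsg.Lib.SLMinDeg

namespace Cfsg.Lib.OrthMinDeg

variable {F : Type*} [Field F] {n : ℕ}

/-- The matrix of `a ∧ b`. -/
def wedge (a b : Fin n → F) : Matrix (Fin n) (Fin n) F := vecMulVec a b - vecMulVec b a

/-- The alternating matrices. -/
def AltM (F : Type*) [Field F] (n : ℕ) : Submodule F (Matrix (Fin n) (Fin n) F) :=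
  Submodule.span F {A | ∃ a b, A = wedge a b}

/-- `a ∧ b` as an alternating matrix. -/
def wd (a b : Fin n → F) : AltM F n := ⟨wedge a b, Submodule.subset_span ⟨a, b, rfl⟩⟩

theorem coe_wd (a b : Fin n → F) : ((wd a b : AltM F n) : Matrix (Fin n) (Fin n) F) = wedge a b := rfl

theorem wd_add_left (a a' b : Fin n → F) : wd (a + a') b = wd a b + wd a' b := by
  refine Subtype.ext ?_
  simp only [coe_wd, Submodule.coe_add, wedge, add_vecMulVec, vecMulVec_add]
  abel

theorem wd_smul_left (c : F) (a b : Fin n → F) : wd (c • a) b = c • wd a b := by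
  refine Subtype.ext ?_
  simp only [coe_wd, Submodule.coe_smul, wedge, smul_vecMulVec, vecMulVec_smul, smul_sub]

theorem wd_swap (a b : Fin n → F) : wd b a = -wd a b := by
  refine Subtype.ext ?_
  simp only [coe_wd, Submodule.coe_neg, wedge, neg_sub]

theorem wd_self (a : Fin n → F) : wd a a = 0 := by
  refine Subtype.ext ?_
  simp [coe_wd, wedge]

theorem wd_add_right (a b b' : Fin n → F) : wd a (b + b') = wd a b + wd a b' := by
  rw [wd_swap (b + b') a, wd_add_left, neg_add, ← wd_swap, ← wd_swap]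

theorem wd_smul_right (c : F) (a b : Fin n → F) : wd a (c • b) = c • wd a b := by
  rw [wd_swap (c • b) a, wd_smul_left, wd_swap a b, smul_neg, neg_neg]

theorem wedge_mulVec (a b v : Fin n → F) : wedge a b *ᵥ v = (b ⬝ᵥ v) • a - (a ⬝ᵥ v) • b := by
  rw [wedge, sub_mulVec, vecMulVec_mulVec, vecMulVec_mulVec]
  funext i
  simp [mul_comm]

theorem dot_wedge (u v a b : Fin n → F) :
    u ⬝ᵥ (wedge a b *ᵥ v) = (u ⬝ᵥ a) * (v ⬝ᵥ b) - (u ⬝ᵥ b) * (v ⬝ᵥ a) := by
  rw [wedge_mulVec, dotProduct_sub, dotProduct_smul, dotProduct_smul, dotProduct_comm b v, dotProduct_comm a v]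
  simp only [smul_eq_mul]
  ring

theorem dot_mulVec_self {A : Matrix (Fin n) (Fin n) F} (hA : A ∈ AltM F n) (v : Fin n → F) :
    v ⬝ᵥ (A *ᵥ v) = 0 := by
  induction hA using Submodule.span_induction with
  | mem z hz =>
    obtain ⟨a, b, rfl⟩ := hz
    rw [dot_wedge]; ring
  | zero => simp
  | add x y _ _ hx hy => rw [add_mulVec, dotProduct_add, hx, hy, add_zero]
  | smul c x _ hx => rw [smul_mulVec, dotProduct_smul, hx, smul_zero]

theorem dot_mulVec_swap {A : Matrix (Fin n) (Fin n) F} (hA : A ∈ AltM F n) (u v : Fin n → F) :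
    v ⬝ᵥ (A *ᵥ u) = -(u ⬝ᵥ (A *ᵥ v)) := by
  have h := dot_mulVec_self hA (u + v)
  rw [mulVec_add, add_dotProduct, dotProduct_add, dotProduct_add, dot_mulVec_self hA, dot_mulVec_self hA] at h
  linear_combination h

theorem wedge_conj (g : Matrix (Fin n) (Fin n) F) (a b : Fin n → F) :
    g * wedge a b * gᵀ = wedge (g *ᵥ a) (g *ᵥ b) := by
  simp only [wedge, mul_sub, sub_mul, mul_vecMulVec, vecMulVec_mul, vecMul_transpose]

theorem conj_mem (g : Matrix (Fin n) (Fin n) F) {A : Matrix (Fin n) (Fin n) F} (hA : A ∈ AltM F n) :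
    g * A * gᵀ ∈ AltM F n := by
  induction hA using Submodule.span_induction with
  | mem z hz =>
    obtain ⟨a, b, rfl⟩ := hz
    rw [wedge_conj]
    exact Submodule.subset_span ⟨_, _, rfl⟩
  | zero => simp
  | add x y _ _ hx hy => rw [mul_add, add_mul]; exact add_mem hx hy
  | smul c x _ hx => rw [mul_smul_comm, smul_mul_assoc]; exact Submodule.smul_mem _ c hx

/-- `A ↦ g A gᵀ`. -/
def cg (g : Matrix (Fin n) (Fin n) F) : AltM F n →ₗ[F] AltM F n where
  toFun A := ⟨g * A * gᵀ, conj_mem g A.2⟩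
  map_add' A B := Subtype.ext (by simp [mul_add, add_mul])
  map_smul' c A := Subtype.ext (by simp)

theorem coe_cg (g : Matrix (Fin n) (Fin n) F) (A : AltM F n) :
    (cg g A : Matrix (Fin n) (Fin n) F) = g * A * gᵀ := rfl

theorem cg_wd (g : Matrix (Fin n) (Fin n) F) (a b : Fin n → F) : cg g (wd a b) = wd (g *ᵥ a) (g *ᵥ b) :=
  Subtype.ext (wedge_conj g a b)

theorem cg_mul (g h : Matrix (Fin n) (Fin n) F) (A : AltM F n) : cg (g * h) A = cg g (cg h A) :=
  Subtype.ext (by simp only [coe_cg, transpose_mul, mul_assoc])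

theorem cg_one (A : AltM F n) : cg 1 A = A := Subtype.ext (by simp [coe_cg])

/-- The alternating matrices are generated by multiples of the `eᵢ ∧ eⱼ`. -/
theorem alt_induction {P : AltM F n → Prop} (h0 : P 0) (hadd : ∀ A B, P A → P B → P (A + B))
    (hgen : ∀ (i j : Fin n) (c : F), i ≠ j → P (wd (Pi.single i c) (Pi.single j 1))) (A : AltM F n) : P A := by
  classical
  have hsum : ∀ (s : Finset (Fin n)) (f : Fin n → AltM F n), (∀ i ∈ s, P (f i)) → P (∑ i ∈ s, f i) :=
    fun s f hf => Finset.sum_induction f P hadd h0 hf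
  have hw : ∀ a b, P (wd a b) := by
    intro a b
    have e : wd a b = ∑ i, ∑ j, wd (Pi.single i (a i * b j)) (Pi.single j 1) := by
      have e1 : ∀ i j, wd (Pi.single i (a i * b j) : Fin n → F) (Pi.single j 1) =
          wd (Pi.single i (a i)) (Pi.single j (b j)) := fun i j => by
        rw [show (Pi.single i (a i * b j) : Fin n → F) = b j • Pi.single i (a i) by
            rw [← Pi.single_smul, smul_eq_mul, mul_comm],
          show (Pi.single j (b j) : Fin n → F) = b j • Pi.single j 1 by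
            rw [← Pi.single_smul, smul_eq_mul, mul_one],
          wd_smul_left, wd_smul_right]
      simp only [e1]
      refine Subtype.ext ?_
      simp only [Submodule.coe_sum, coe_wd]
      ext x y
      simp [wedge, Matrix.sum_apply, vecMulVec_apply, Pi.single_apply]
    rw [e]
    refine hsum _ _ fun i _ => hsum _ _ fun j _ => ?_
    by_cases hij : i = j
    · subst hij
      rw [show (Pi.single i (a i * b i) : Fin n → F) = (a i * b i) • Pi.single i 1 by
          rw [← Pi.single_smul, smul_eq_mul, mul_one],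
        wd_smul_left, wd_self, smul_zero]
      exact h0
    · exact hgen i j _ hij
  obtain ⟨A, hA⟩ := A
  have : ∀ c : F, P (c • ⟨A, hA⟩) := by
    induction hA using Submodule.span_induction with
    | mem z hz =>
      obtain ⟨a, b, rfl⟩ := hz
      intro c
      have := hw (c • a) b
      rwa [wd_smul_left] at this
    | zero =>
      intro c
      have : (c • (⟨0, zero_mem _⟩ : AltM F n)) = 0 := Subtype.ext (by simp)
      rw [this]; exact h0
    | add x y hx hy ihx ihy =>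
      intro c
      have := hadd _ _ (ihx c) (ihy c)
      rw [← smul_add] at this
      exact this
    | smul r x hx ih =>
      intro c
      have := ih (c * r)
      rwa [mul_smul] at this
  simpa using this 1

/-! ### Functionals -/

/-- The form on vectors of a functional. -/
def bf (L : Module.Dual F (AltM F n)) : (Fin n → F) →ₗ[F] (Fin n → F) →ₗ[F] F :=
  LinearMap.mk₂ F (fun a b => L (wd a b))
    (fun a a' b => by rw [wd_add_left, map_add])
    (fun c a b => by rw [wd_smul_left, map_smul])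
    (fun a b b' => by rw [wd_add_right, map_add])
    (fun c a b => by rw [wd_smul_right, map_smul])

theorem bf_apply (L : Module.Dual F (AltM F n)) (a b : Fin n → F) : bf L a b = L (wd a b) := rfl

theorem bf_self (L : Module.Dual F (AltM F n)) (a : Fin n → F) : bf L a a = 0 := by
  rw [bf_apply, wd_self, map_zero]

theorem bf_swap (L : Module.Dual F (AltM F n)) (a b : Fin n → F) : bf L b a = -bf L a b := by
  rw [bf_apply, bf_apply, wd_swap, map_neg]

theorem bf_comp (L : Module.Dual F (AltM F n)) (g : Matrix (Fin n) (Fin n) F) (a b : Fin n → F) :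
    bf (L.comp (cg g)) a b = bf L (g *ᵥ a) (g *ᵥ b) := by
  rw [bf_apply, bf_apply, LinearMap.comp_apply, cg_wd]

theorem dual_ext {L M : Module.Dual F (AltM F n)}
    (h : ∀ i j : Fin n, i ≠ j → bf L (Pi.single i 1) (Pi.single j 1) = bf M (Pi.single i 1) (Pi.single j 1)) :
    L = M := by
  refine LinearMap.ext fun A => ?_
  induction A using alt_induction with
  | h0 => simp
  | hadd A B hA hB => rw [map_add, map_add, hA, hB]
  | hgen i j c hij =>
    rw [show (Pi.single i c : Fin n → F) = c • Pi.single i 1 by rw [← Pi.single_smul, smul_eq_mul, mul_one],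
      wd_smul_left, map_smul, map_smul, ← bf_apply, ← bf_apply, h i j hij]

theorem comp_cg_mul (L : Module.Dual F (AltM F n)) (g h : Matrix (Fin n) (Fin n) F) :
    (L.comp (cg g)).comp (cg h) = L.comp (cg (g * h)) := LinearMap.ext fun A => by
  simp only [LinearMap.comp_apply, cg_mul]

theorem comp_cg_one (L : Module.Dual F (AltM F n)) : L.comp (cg 1) = L := LinearMap.ext fun A => by
  simp only [LinearMap.comp_apply, cg_one]

/-- The functional `A ↦ u A v`. -/
def luv (u v : Fin n → F) : Module.Dual F (AltM F n) where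
  toFun A := u ⬝ᵥ ((A : Matrix (Fin n) (Fin n) F) *ᵥ v)
  map_add' A B := by rw [Submodule.coe_add, add_mulVec, dotProduct_add]
  map_smul' c A := by rw [Submodule.coe_smul, smul_mulVec, dotProduct_smul, RingHom.id_apply]

theorem luv_apply (u v : Fin n → F) (A : AltM F n) :
    luv u v A = u ⬝ᵥ ((A : Matrix (Fin n) (Fin n) F) *ᵥ v) := rfl

theorem bf_luv (u v a b : Fin n → F) :
    bf (luv u v) a b = (u ⬝ᵥ a) * (v ⬝ᵥ b) - (u ⬝ᵥ b) * (v ⬝ᵥ a) := dot_wedge u v a b

theorem luv_comp (u v : Fin n → F) (g : Matrix (Fin n) (Fin n) F) :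
    (luv u v).comp (cg g) = luv (u ᵥ* g) (v ᵥ* g) := LinearMap.ext fun A => by
  rw [LinearMap.comp_apply, luv_apply, luv_apply, coe_cg, ← mulVec_mulVec, ← mulVec_mulVec, mulVec_transpose,
    dotProduct_mulVec]

theorem luv_comb (u v : Fin n → F) (a b c d : F) :
    luv (a • u + b • v) (c • u + d • v) = (a * d - b * c) • luv u v := LinearMap.ext fun A => by
  rw [LinearMap.smul_apply, luv_apply, luv_apply, mulVec_add, mulVec_smul, mulVec_smul, add_dotProduct,
    smul_dotProduct, smul_dotProduct, dotProduct_add, dotProduct_add, dotProduct_smul, dotProduct_smul,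
    dotProduct_smul, dotProduct_smul, dot_mulVec_self A.2, dot_mulVec_self A.2, dot_mulVec_swap A.2 u v]
  simp only [smul_eq_mul]
  ring

/-- The decomposable functionals. -/
def Dec (L : Module.Dual F (AltM F n)) : Prop := L ≠ 0 ∧ ∃ u v, L = luv u v

theorem Dec.comp {L : Module.Dual F (AltM F n)} (h : Dec L) {g g' : Matrix (Fin n) (Fin n) F} (hg : g * g' = 1) :
    Dec (L.comp (cg g)) := by
  obtain ⟨h0, u, v, rfl⟩ := h
  refine ⟨fun e => h0 ?_, _, _, luv_comp u v g⟩
  have := congrArg (fun M : Module.Dual F (AltM F n) => M.comp (cg g')) e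
  simpa only [comp_cg_mul, hg, comp_cg_one, LinearMap.zero_comp] using this

/-- Every non-zero wedge is moved to the first one. -/
theorem exists_pair {n : ℕ} {u v : Fin (n + 1 + 1) → F} (hn : 1 ≤ n) (h : wd u v ≠ 0) :
    ∃ g : Matrix.SpecialLinearGroup (Fin (n + 1 + 1)) F, ∃ t : F,
      (g : Matrix (Fin (n + 1 + 1)) (Fin (n + 1 + 1)) F) *ᵥ Pi.single 0 1 = u ∧
      (g : Matrix (Fin (n + 1 + 1)) (Fin (n + 1 + 1)) F) *ᵥ Pi.single 1 1 = v + t • u := by
  have hu : u ≠ 0 := fun e => h (by rw [e, ← zero_smul F u, wd_smul_left, zero_smul])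
  obtain ⟨g, hg⟩ := exists_mulVec_eq hu 0 ⟨1, by simp⟩
  set w := ((g⁻¹ : Matrix.SpecialLinearGroup (Fin (n + 1 + 1)) F) : Matrix (Fin (n + 1 + 1)) (Fin (n + 1 + 1)) F) *ᵥ v
    with hw
  have hwv : (g : Matrix (Fin (n + 1 + 1)) (Fin (n + 1 + 1)) F) *ᵥ w = v := by
    rw [hw, mulVec_mulVec, ← Matrix.SpecialLinearGroup.coe_mul, mul_inv_cancel, Matrix.SpecialLinearGroup.coe_one,
      one_mulVec]
  have hsplit : (Fin.cons 0 (Fin.tail w) : Fin (n + 1 + 1) → F) = w + (-w 0) • Pi.single 0 1 := by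
    ext i; cases i using Fin.cases <;> simp [Fin.tail]
  have ht : Fin.tail w ≠ 0 := fun e => h (by
    have hw0 : w = w 0 • Pi.single 0 1 := by
      ext i; cases i using Fin.cases with
      | zero => simp
      | succ i => simpa [Fin.tail] using congrFun e i
    rw [← hwv, hw0, mulVec_smul, hg, wd_smul_right, wd_self, smul_zero])
  obtain ⟨A, hA⟩ := exists_mulVec_eq ht 0 ⟨Fin.last n, by simp [Fin.ext_iff]; omega⟩
  refine ⟨g * emb A, -w 0, ?_, ?_⟩
  · rw [Matrix.SpecialLinearGroup.coe_mul, ← mulVec_mulVec, emb_fix_col, hg]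
  · have e1 : (Pi.single 1 1 : Fin (n + 1 + 1) → F) = Fin.cons 0 (Pi.single 0 1) := by
      ext i; cases i using Fin.cases with
      | zero => simp
      | succ i => simp [Pi.single_apply, ← Fin.succ_zero_eq_one, -Fin.succ_zero_eq_one']
    rw [Matrix.SpecialLinearGroup.coe_mul, ← mulVec_mulVec, e1, emb_mulVec, hA, hsplit, mulVec_add, hwv,
      mulVec_smul, hg]

theorem mulVec_tv {n : ℕ} (u φ w : Fin n → F) (h : φ ⬝ᵥ u = 0) :
    ((tv u φ h : Matrix.SpecialLinearGroup (Fin n) F) : Matrix (Fin n) (Fin n) F) *ᵥ w = w + (φ ⬝ᵥ w) • u := by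
  rw [coe_tv, add_mulVec, one_mulVec, vecMulVec_mulVec]
  funext i
  simp [mul_comm]

/-- A decomposable functional is moved to the first one. -/
theorem exists_dec_move {k : ℕ} (hk : 1 ≤ k) {L : Module.Dual F (AltM F (k + 1 + 1))} (h : Dec L) :
    ∃ g : Matrix.SpecialLinearGroup (Fin (k + 1 + 1)) F,
      L = (luv (Pi.single 0 1) (Pi.single 1 1)).comp (cg (g : Matrix (Fin (k + 1 + 1)) (Fin (k + 1 + 1)) F)) := by
  obtain ⟨h0, u, v, rfl⟩ := h
  have hw : wd u v ≠ 0 := fun e => h0 <| LinearMap.ext fun A => by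
    have hu : ∀ x y : Fin (k + 1 + 1), u x * v y - v x * u y = 0 := fun x y => by
      simpa [coe_wd, wedge, vecMulVec_apply] using
        congrArg (fun B : AltM F (k + 1 + 1) => (B : Matrix (Fin (k + 1 + 1)) (Fin (k + 1 + 1)) F) x y) e
    rw [LinearMap.zero_apply]
    by_cases hu0 : u = 0
    · rw [luv_apply, hu0, zero_dotProduct]
    obtain ⟨x, hx⟩ := Function.ne_iff.mp hu0
    have hv : v = (v x / u x) • u := funext fun y => by
      rw [Pi.smul_apply, smul_eq_mul, div_mul_eq_mul_div, eq_div_iff hx]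
      linear_combination hu x y
    rw [luv_apply, hv, mulVec_smul, dotProduct_smul, dot_mulVec_self A.2, smul_zero]
  obtain ⟨g, t, hg0, hg1⟩ := exists_pair hk hw
  refine ⟨g.transpose, ?_⟩
  rw [luv_comp, show (g.transpose : Matrix (Fin (k + 1 + 1)) (Fin (k + 1 + 1)) F) =
      (g : Matrix (Fin (k + 1 + 1)) (Fin (k + 1 + 1)) F)ᵀ from rfl, vecMul_transpose, vecMul_transpose, hg0, hg1]
  have := luv_comb u v 1 0 t 1
  simp only [one_smul, zero_smul, add_zero, mul_one, zero_mul, sub_zero] at this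
  exact this.symm.trans (congrArg (luv u) (add_comm _ _))

theorem dec_first {k : ℕ} : Dec (luv (Pi.single 0 1) (Pi.single 1 1) : Module.Dual F (AltM F (k + 1 + 1))) := by
  refine ⟨fun e => ?_, _, _, rfl⟩
  have := congrArg (fun M => bf M (Pi.single 0 (1 : F)) (Pi.single 1 1)) e
  simp [bf_luv, bf_apply (0 : Module.Dual F (AltM F (k + 1 + 1)))] at this

/-! ### The orbit of an indecomposable functional -/

variable [Fintype F]

theorem large_orbit {k : ℕ} (hk : 1 ≤ k) (Γ : Subgroup (Matrix.GeneralLinearGroup (Fin (k + 1 + 1)) F))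
    (hSL : ∀ g : Matrix.SpecialLinearGroup (Fin (k + 1 + 1)) F, Matrix.SpecialLinearGroup.toGL g ∈ Γ)
    {μ : F} (hμ : μ * μ ≠ 1) (hμ0 : μ ≠ 0)
    (hdil : ∀ j : Fin (k + 1 + 1), ∃ g ∈ Γ, (g : Matrix (Fin (k + 1 + 1)) (Fin (k + 1 + 1)) F) =
      diagonal (Function.update 1 j (μ * μ)))
    {L : Module.Dual F (AltM F (k + 1 + 1))} (hL : L ≠ 0) (hD : ¬ Dec L) :
    2 * ((Fintype.card F ^ (k + 1) - 1) * Fintype.card F ^ k) ≤
      Nat.card {L' : Module.Dual F (AltM F (k + 1 + 1)) //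
        ∃ g ∈ Γ, L' = L.comp (cg (g : Matrix (Fin (k + 1 + 1)) (Fin (k + 1 + 1)) F))} := by
  classical
  set e : Fin (k + 1 + 1) → Fin (k + 1 + 1) → F := fun i => Pi.single i 1 with he
  -- a normal form
  obtain ⟨g₁, hg₁⟩ : ∃ g : Matrix.SpecialLinearGroup (Fin (k + 1 + 1)) F,
      bf (L.comp (cg (g : Matrix (Fin (k + 1 + 1)) (Fin (k + 1 + 1)) F))) (e 0) (e 1) = 1 := by
    obtain ⟨i, j, hij⟩ : ∃ i j, bf L (e i) (e j) ≠ 0 := by
      by_contra hc
      push Not at hc
      exact hL (dual_ext fun i j _ => (hc i j).trans (by simp [bf_apply]))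
    set c := bf L (e i) (e j) with hc
    have h1 : bf L (e i) (c⁻¹ • e j) = 1 := by
      rw [map_smul, smul_eq_mul, ← hc, inv_mul_cancel₀ hij]
    obtain ⟨g, t, ha, hb⟩ := exists_pair hk (u := e i) (v := c⁻¹ • e j) (fun hz => by
      rw [bf_apply, hz, map_zero] at h1; exact zero_ne_one h1)
    refine ⟨g, ?_⟩
    rw [bf_comp]
    simp only [he] at ha hb h1 ⊢
    rw [ha, hb, map_add, h1, map_smul, bf_self, smul_zero, add_zero]
  set L₁ := L.comp (cg (g₁ : Matrix (Fin (k + 1 + 1)) (Fin (k + 1 + 1)) F)) with hL₁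
  let φ : Fin (k + 1 + 1) → F := fun j => if j = 0 ∨ j = 1 then 0 else bf L₁ (e 1) (e j)
  let φ' : Fin (k + 1 + 1) → F := fun j => if j = 0 ∨ j = 1 then 0 else -bf L₁ (e 0) (e j)
  have hφ : φ ⬝ᵥ e 0 = 0 := by simp [φ, he]
  have hφ' : φ' ⬝ᵥ e 1 = 0 := by simp [φ', he]
  set g₂ : Matrix.SpecialLinearGroup (Fin (k + 1 + 1)) F := g₁ * (tv _ φ hφ * tv _ φ' hφ') with hg₂
  set L₂ := L.comp (cg (g₂ : Matrix (Fin (k + 1 + 1)) (Fin (k + 1 + 1)) F)) with hL₂
  have h21 : ∀ a b, bf L₂ a b = bf L₁ (a + (φ' ⬝ᵥ a) • e 1 + (φ ⬝ᵥ a) • e 0)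
      (b + (φ' ⬝ᵥ b) • e 1 + (φ ⬝ᵥ b) • e 0) := fun a b => by
    have hv : ∀ w, φ ⬝ᵥ (w + (φ' ⬝ᵥ w) • e 1) = φ ⬝ᵥ w := fun w => by
      simp [φ, he, dotProduct_add, dotProduct_smul]
    rw [hL₂, bf_comp, hg₂, Matrix.SpecialLinearGroup.coe_mul, ← mulVec_mulVec, ← mulVec_mulVec,
      Matrix.SpecialLinearGroup.coe_mul, ← mulVec_mulVec, ← mulVec_mulVec, mulVec_tv, mulVec_tv, mulVec_tv, mulVec_tv,
      hv, hv, hL₁, bf_comp]
  have p01 : bf L₂ (e 0) (e 1) = 1 := by
    rw [h21]; simp [φ, φ', he] at hg₁ ⊢; exact hg₁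
  have hrow : ∀ j : Fin (k + 1 + 1), j ≠ 0 → j ≠ 1 → bf L₂ (e 0) (e j) = 0 ∧ bf L₂ (e 1) (e j) = 0 := by
    intro j hj0 hj1
    have h10 : bf L₁ (e 1) (e 0) = -1 := by rw [bf_swap, hg₁]
    constructor <;> rw [h21] <;>
      simp [φ, φ', he, hj0, hj1, map_add, map_smul, bf_self] at hg₁ h10 ⊢ <;>
      simp [hg₁, h10]
  have hlin : ∀ w, bf L₂ (e 0) w = w 1 ∧ bf L₂ (e 1) w = -w 0 := by
    intro w
    have hw : w = ∑ i, w i • e i := by
      funext i; simp [he, Finset.sum_apply, Pi.single_apply]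
    constructor
    · conv_lhs => rw [hw]
      rw [map_sum, Finset.sum_eq_single 1 (fun b _ hb => by
        rw [map_smul]
        by_cases hb0 : b = 0
        · subst hb0; rw [bf_self, smul_zero]
        · rw [(hrow b hb0 hb).1, smul_zero]) (fun h => absurd (Finset.mem_univ _) h), map_smul, p01,
        smul_eq_mul, mul_one]
    · conv_lhs => rw [hw]
      rw [map_sum, Finset.sum_eq_single 0 (fun b _ hb => by
        rw [map_smul]
        by_cases hb1 : b = 1
        · subst hb1; rw [bf_self, smul_zero]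
        · rw [(hrow b hb hb1).2, smul_zero]) (fun h => absurd (Finset.mem_univ _) h), map_smul, bf_swap, p01,
        smul_eq_mul, mul_neg, mul_one]
  obtain ⟨i₀, j₀, hi0, hi1, hj0, hj1, hb⟩ : ∃ i j : Fin (k + 1 + 1), i ≠ 0 ∧ i ≠ 1 ∧ j ≠ 0 ∧ j ≠ 1 ∧
      bf L₂ (e i) (e j) ≠ 0 := by
    by_contra hc
    push Not at hc
    apply hD
    have h01 : L₂ = luv (Pi.single 0 1) (Pi.single 1 1) := dual_ext fun i j hij => by
      rw [bf_luv]
      change bf L₂ (e i) (e j) = _
      by_cases hi : i = 0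
      · subst hi; rw [(hlin _).1]; simp [he, Pi.single_apply, eq_comm]
      by_cases hi' : i = 1
      · subst hi'; rw [(hlin _).2]; simp [he, Pi.single_apply, eq_comm]
      by_cases hj : j = 0
      · subst hj; rw [bf_swap, (hlin _).1]; simp [he, Pi.single_apply, hi, hi', eq_comm]
      by_cases hj' : j = 1
      · subst hj'; rw [bf_swap, (hlin _).2]; simp [he, Pi.single_apply, hi, hi', eq_comm]
      rw [hc i j hi hi' hj hj']
      simp [Pi.single_apply, Ne.symm hi, Ne.symm hi']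
    have hLe : L = L₂.comp (cg ((g₂⁻¹ : Matrix.SpecialLinearGroup (Fin (k + 1 + 1)) F) :
        Matrix (Fin (k + 1 + 1)) (Fin (k + 1 + 1)) F)) := by
      rw [hL₂, comp_cg_mul, ← Matrix.SpecialLinearGroup.coe_mul, mul_inv_cancel, Matrix.SpecialLinearGroup.coe_one,
        comp_cg_one]
    rw [hLe, h01]
    exact dec_first.comp (g' := (g₂ : Matrix (Fin (k + 1 + 1)) (Fin (k + 1 + 1)) F))
      (by rw [← Matrix.SpecialLinearGroup.coe_mul, inv_mul_cancel, Matrix.SpecialLinearGroup.coe_one])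
  have hij : i₀ ≠ j₀ := fun h => hb (by rw [h, bf_self])
  obtain ⟨d, hdΓ, hd⟩ := hdil j₀
  -- the family
  choose A hA using fun r : {r : Fin (k + 1) → F // r ≠ 0} =>
    exists_vecMul_eq (F := F) r.2 0 ⟨Fin.last k, by simp [Fin.ext_iff]; omega⟩
  let ψ : (Fin k → F) → Fin (k + 1 + 1) → F := fun t => Fin.cons 0 (Fin.cons 0 t)
  have hψ : ∀ t, ψ t ⬝ᵥ e 0 = 0 := fun t => by simp [ψ, he]
  let gm : {r : Fin (k + 1) → F // r ≠ 0} × (Fin k → F) × Bool → Matrix.GeneralLinearGroup (Fin (k + 1 + 1)) F :=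
    fun p => Matrix.SpecialLinearGroup.toGL g₂ * (cond p.2.2 d 1 *
      (Matrix.SpecialLinearGroup.toGL (tv _ _ (hψ p.2.1)) * Matrix.SpecialLinearGroup.toGL (emb (A p.1)⁻¹)))
  have hmem : ∀ p, gm p ∈ Γ := fun p => mul_mem (hSL _) (mul_mem (by
    rcases p.2.2 with _ | _
    · exact one_mem _
    · exact hdΓ) (mul_mem (hSL _) (hSL _)))
  have hcard : Nat.card ({r : Fin (k + 1) → F // r ≠ 0} × (Fin k → F) × Bool) =
      2 * ((Fintype.card F ^ (k + 1) - 1) * Fintype.card F ^ k) := by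
    rw [Nat.card_prod, Nat.card_prod, card_fun_ne_zero, Nat.card_eq_fintype_card, Fintype.card_fun, Fintype.card_fin,
      Nat.card_eq_fintype_card, Fintype.card_bool]
    ring
  rw [← hcard]
  haveI : Finite (Module.Dual F (AltM F (k + 1 + 1))) := Module.finite_of_finite F
  refine Nat.card_le_card_of_injective (fun p => ⟨_, gm p, hmem p, rfl⟩) fun p p' hp => ?_
  have hp' : L.comp (cg (gm p : Matrix (Fin (k + 1 + 1)) (Fin (k + 1 + 1)) F)) = L.comp (cg (gm p' : Matrix _ _ F)) :=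
    congrArg Subtype.val hp
  set sc : Bool → Fin (k + 1 + 1) → F := fun b => cond b (Function.update 1 j₀ (μ * μ)) 1 with hsc
  have hval : ∀ p a b, bf (L.comp (cg (gm p : Matrix (Fin (k + 1 + 1)) (Fin (k + 1 + 1)) F))) a b =
      bf L₂ (diagonal (sc p.2.2) *ᵥ ((tv _ _ (hψ p.2.1) : Matrix.SpecialLinearGroup (Fin (k + 1 + 1)) F).1 *ᵥ
          ((emb (A p.1)⁻¹ : Matrix.SpecialLinearGroup (Fin (k + 1 + 1)) F).1 *ᵥ a)))
        (diagonal (sc p.2.2) *ᵥ ((tv _ _ (hψ p.2.1) : Matrix.SpecialLinearGroup (Fin (k + 1 + 1)) F).1 *ᵥ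
          ((emb (A p.1)⁻¹ : Matrix.SpecialLinearGroup (Fin (k + 1 + 1)) F).1 *ᵥ b))) := by
    intro p a b
    have hc : ((cond p.2.2 d 1 : Matrix.GeneralLinearGroup (Fin (k + 1 + 1)) F) :
        Matrix (Fin (k + 1 + 1)) (Fin (k + 1 + 1)) F) = diagonal (sc p.2.2) := by
      rcases p.2.2 with _ | _
      · simp [hsc]
      · simp [hsc, hd]
    simp only [gm, hL₂, bf_comp, Units.val_mul, hc, mulVec_mulVec, mul_assoc]
    rfl
  have hfix : ∀ b, sc b 0 = 1 ∧ sc b 1 = 1 ∧ sc b i₀ = 1 := fun b => by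
    cases b <;> simp [hsc, Ne.symm hj0, Ne.symm hj1, hij]
  have hr0 : ∀ p (w : Fin (k + 1) → F),
      bf (L.comp (cg (gm p : Matrix (Fin (k + 1 + 1)) (Fin (k + 1 + 1)) F))) (e 0) (Fin.cons 0 w) = p.1.1 ⬝ᵥ w := by
    intro p w
    rw [hval]
    have h0 : diagonal (sc p.2.2) *ᵥ ((tv _ _ (hψ p.2.1) : Matrix.SpecialLinearGroup (Fin (k + 1 + 1)) F).1 *ᵥ
          ((emb (A p.1)⁻¹ : Matrix.SpecialLinearGroup (Fin (k + 1 + 1)) F).1 *ᵥ e 0)) = e 0 := by
      simp only [he]
      rw [emb_fix_col, mulVec_tv, hψ, zero_smul, add_zero]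
      ext i; rw [mulVec_diagonal]
      by_cases hi : i = 0
      · subst hi; simp [(hfix p.2.2).1]
      · simp [hi]
    rw [h0, (hlin _).1, mulVec_diagonal, (hfix _).2.1, one_mul, emb_mulVec, mulVec_tv]
    simp only [he, Pi.add_apply, Pi.smul_apply, Pi.single_eq_of_ne (show (1 : Fin (k + 1 + 1)) ≠ 0 by simp),
      smul_zero, add_zero]
    rw [show (1 : Fin (k + 1 + 1)) = Fin.succ 0 by simp, Fin.cons_succ]
    trans (Pi.single 0 1 : Fin (k + 1) → F) ⬝ᵥ
      ((((A p.1)⁻¹ : Matrix.SpecialLinearGroup (Fin (k + 1)) F) : Matrix (Fin (k + 1)) (Fin (k + 1)) F) *ᵥ w)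
    · exact ((single_dotProduct _ _ _).trans (one_mul _)).symm
    rw [dotProduct_mulVec]
    congr 1
    conv_lhs => rw [← hA p.1, vecMul_vecMul, ← Matrix.SpecialLinearGroup.coe_mul, mul_inv_cancel,
      Matrix.SpecialLinearGroup.coe_one, vecMul_one]
  have hr : p.1 = p'.1 := Subtype.ext (funext fun i => by
    have h1 := hr0 p (Pi.single i 1)
    rw [hp', hr0 p', dotProduct_single, dotProduct_single, mul_one, mul_one] at h1
    exact h1.symm)
  have hq : ∀ a b, bf L₂ (diagonal (sc p.2.2) *ᵥ ((tv _ _ (hψ p.2.1) : Matrix.SpecialLinearGroup (Fin (k + 1 + 1)) F).1 *ᵥ a))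
        (diagonal (sc p.2.2) *ᵥ ((tv _ _ (hψ p.2.1) : Matrix.SpecialLinearGroup (Fin (k + 1 + 1)) F).1 *ᵥ b)) =
      bf L₂ (diagonal (sc p'.2.2) *ᵥ ((tv _ _ (hψ p'.2.1) : Matrix.SpecialLinearGroup (Fin (k + 1 + 1)) F).1 *ᵥ a))
        (diagonal (sc p'.2.2) *ᵥ ((tv _ _ (hψ p'.2.1) : Matrix.SpecialLinearGroup (Fin (k + 1 + 1)) F).1 *ᵥ b)) := by
    intro a b
    have h1 := congrArg (fun M => bf M ((emb (A p.1)).1 *ᵥ a) ((emb (A p.1)).1 *ᵥ b)) hp'
    have hc : ∀ v : Fin (k + 1 + 1) → F, (emb (A p.1)⁻¹).1 *ᵥ ((emb (A p.1)).1 *ᵥ v) = v := fun v => by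
      rw [mulVec_mulVec, ← Matrix.SpecialLinearGroup.coe_mul, ← map_mul, inv_mul_cancel, map_one,
        Matrix.SpecialLinearGroup.coe_one, one_mulVec]
    beta_reduce at h1
    rwa [hval, hval, ← hr, hc, hc] at h1
  have he1 : ∀ t, (tv _ _ (hψ t) : Matrix.SpecialLinearGroup (Fin (k + 1 + 1)) F).1 *ᵥ e 1 = e 1 := fun t => by
    rw [mulVec_tv, he, dotProduct_single, mul_one, show ψ t 1 = 0 from rfl, zero_smul, add_zero]
  have hsc1 : ∀ b, diagonal (sc b) *ᵥ e 1 = e 1 := fun b => by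
    ext i; rw [mulVec_diagonal]
    by_cases hi : i = 1
    · subst hi; simp [(hfix b).2.1]
    · simp [he, hi]
  have ht : p.2.1 = p'.2.1 := funext fun j => by
    have h1 := hq (e 1) (e j.succ.succ)
    have hj : (j.succ.succ : Fin (k + 1 + 1)) ≠ 0 := Fin.succ_ne_zero _
    rw [he1, he1, hsc1, hsc1, (hlin _).2, (hlin _).2, mulVec_diagonal, mulVec_diagonal, (hfix _).1, (hfix _).1,
      mulVec_tv, mulVec_tv, neg_inj] at h1
    simpa [ψ, he, hj.symm] using h1
  have hs : p.2.2 = p'.2.2 := by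
    by_contra hne
    have h1 := hq (e i₀) (e j₀)
    have hw : ∀ b, diagonal (sc b) *ᵥ ((tv _ _ (hψ p'.2.1) : Matrix.SpecialLinearGroup (Fin (k + 1 + 1)) F).1 *ᵥ e i₀) =
        e i₀ + (ψ p'.2.1 ⬝ᵥ e i₀) • e 0 := fun b => by
      rw [mulVec_tv, mulVec_add, mulVec_smul]
      congr 1 <;> [skip; congr 1] <;> (ext i; rw [mulVec_diagonal])
      · by_cases hi : i = i₀
        · subst hi; simp [(hfix b).2.2]
        · simp [he, hi]
      · by_cases hi : i = 0
        · subst hi; simp [(hfix b).1]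
        · simp [he, hi]
    have hz : ∀ b, diagonal (sc b) *ᵥ ((tv _ _ (hψ p'.2.1) : Matrix.SpecialLinearGroup (Fin (k + 1 + 1)) F).1 *ᵥ e j₀) =
        sc b j₀ • e j₀ + (ψ p'.2.1 ⬝ᵥ e j₀) • e 0 := fun b => by
      rw [mulVec_tv, mulVec_add, mulVec_smul]
      congr 1 <;> [skip; congr 1] <;> (ext i; rw [mulVec_diagonal])
      · by_cases hi : i = j₀
        · subst hi; simp [he]
        · simp [he, hi]
      · by_cases hi : i = 0
        · subst hi; simp [(hfix b).1]
        · simp [he, hi]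
    have hi0' : bf L₂ (e i₀) (e 0) = 0 := by rw [bf_swap, (hrow i₀ hi0 hi1).1, neg_zero]
    rw [ht] at h1
    simp only [hw, hz, map_add, map_smul, LinearMap.add_apply, LinearMap.smul_apply, hi0', (hrow j₀ hj0 hj1).1,
      bf_self, smul_zero, mul_zero, add_zero, zero_add, smul_eq_mul] at h1
    have h2 := mul_right_cancel₀ hb h1
    cases hb1 : p.2.2 <;> cases hb2 : p'.2.2 <;> simp [hsc, hb1, hb2] at h2 hne <;>
      first | exact hμ h2 | exact hμ h2.symm
  exact Prod.ext hr (Prod.ext ht hs)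

end Cfsg.Lib.OrthMinDeg
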