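import Cfsg.Agent.Known.OrthMinDegree.Fixed
import Cfsg.Agent.Chars.Count

/-! The lower bound for the degrees of `Ω⁺`. -/

set_option autoImplicit false
set_option linter.unusedSectionVars false
set_option linter.style.haveILetI false

open Matrix Cfsg.Lib.Classical Cfsg.Lib.Classical.Refl Cfsg.Lib.Classical.HypQuad Cfsg.Lib.SLMinDeg

namespace Cfsg.Lib.OrthMinDeg

universe u v

variable {F : Type u} [Field F] [Fintype F] {k : ℕ} {M : Type v} [AddCommGroup M] [Module ℂ M]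
  [FiniteDimensional ℂ M] (hn : 3 ≤ k + 1 + 1) (ρ : OmP F (k + 1 + 1) →* Module.End ℂ M)
  (hirr : IsIrr ρ) (hd : 2 ≤ Module.finrank ℂ M) (hk : 2 ≤ k) (hq : 3 < Fintype.card F)
  (hs : (Fintype.card F ^ 2 - 1) * Module.finrank ℂ M < D0 F k)

include hn hirr hd hk hq hs

theorem trace_std : LinearMap.trace ℂ M (ρ (piP hn (stdPair (F := F) (k := k)))) =
    (Module.finrank ℂ M : ℂ) - (Fintype.card F : ℂ) ^ (2 * k + 1) := by
  classical
  obtain ⟨hdim, h1, h0⟩ := shape hn ρ hirr hd hk hq hs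
  rw [piP_std, trace_eig ρ (f := xG hn) (xG_add hn), ← Function.Bijective.sum_comp chi_bijective]
  set v : Module.Dual F (AltM F (k + 1 + 1)) → F := fun L => bf L (Pi.single 0 1) (Pi.single 1 1)
  have hterm : ∀ L : Module.Dual F (AltM F (k + 1 + 1)),
      chi L (wd (Pi.single 0 1) (Pi.single 1 1)) * (Module.finrank ℂ (RepEigen.eig ρ (xG hn) (chi L)) : ℂ) =
        (if L = 0 then (ff hn ρ : ℂ) else 0) + (if Dec L then psi0 (v L) else 0) := fun L => by
    change _ * (Module.finrank ℂ (Eg hn ρ L) : ℂ) = _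
    by_cases hL : L = 0
    · subst hL
      rw [if_pos rfl, if_neg (fun h => h.1 rfl), chi_zero, AddChar.one_apply, one_mul, add_zero]; rfl
    rw [if_neg hL, zero_add]
    by_cases hD : Dec L
    · rw [if_pos hD, h1 L hD, Nat.cast_one, mul_one, chi_apply]; rfl
    · rw [if_neg hD, h0 L hL hD, finrank_bot, Nat.cast_zero, mul_zero]
  rw [Finset.sum_congr rfl fun L _ => hterm L, Finset.sum_add_distrib, Finset.sum_ite_eq', if_pos (Finset.mem_univ _),
    ← Finset.sum_filter]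
  set D := Finset.univ.filter (fun L : Module.Dual F (AltM F (k + 1 + 1)) => Dec L) with hDdef
  have hfib : ∀ c : F, (D.filter fun L => v L = c).card = Nat.card (DecC F k c) := fun c => by
    unfold DecC
    rw [Nat.card_eq_fintype_card, Fintype.card_subtype, hDdef, Finset.filter_filter]
  have hcard : D.card = Nat.card {L : Module.Dual F (AltM F (k + 1 + 1)) // Dec L} := by
    rw [Nat.card_eq_fintype_card, Fintype.card_subtype]
  have e1 : ∑ L ∈ D, psi0 (v L) = ∑ c : F, (Nat.card (DecC F k c) : ℂ) * psi0 c := by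
    rw [← Finset.sum_fiberwise D v]
    refine Finset.sum_congr rfl fun c _ => ?_
    rw [Finset.sum_congr rfl (fun L hL => by rw [(Finset.mem_filter.mp hL).2]), Finset.sum_const, hfib, nsmul_eq_mul]
  have e2 : (D.card : ℂ) = ∑ c : F, (Nat.card (DecC F k c) : ℂ) := by
    simp only [← hfib]
    rw [← Nat.cast_sum, ← Finset.card_eq_sum_card_fiberwise (f := v) (t := Finset.univ) (fun _ _ => Finset.mem_univ _)]
  have hQ : ∀ c : F, c ≠ 0 → (Nat.card (DecC F k c) : ℂ) = (Fintype.card F : ℂ) ^ (2 * k) := fun c hc => by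
    rw [card_decC hc, Nat.cast_pow]
  have hpsi : ∑ c : F, psi0 c = (0 : ℂ) :=
    AddChar.sum_eq_zero_of_ne_one fun h => psi0_primitive (F := F) one_ne_zero (by simpa using h)
  have e3 : ∑ c : F, (Nat.card (DecC F k c) : ℂ) * psi0 c =
      (D.card : ℂ) - (Fintype.card F : ℂ) ^ (2 * k + 1) := by
    rw [e2, ← Finset.add_sum_erase _ _ (Finset.mem_univ (0 : F)), ← Finset.add_sum_erase _ (fun c => (Nat.card (DecC F k c) : ℂ))
      (Finset.mem_univ (0 : F)), Finset.sum_congr rfl (fun c hc => by rw [hQ c (Finset.ne_of_mem_erase hc)]),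
      ← Finset.mul_sum, Finset.sum_erase_eq_sub (Finset.mem_univ _), hpsi,
      Finset.sum_congr rfl (fun c hc => hQ c (Finset.ne_of_mem_erase hc)), Finset.sum_const,
      Finset.card_erase_of_mem (Finset.mem_univ _), Finset.card_univ, nsmul_eq_mul,
      Nat.cast_sub Fintype.card_pos, Nat.cast_one, AddChar.map_zero_eq_one, pow_succ]
    ring
  rw [e1, e3, hcard, hdim, Nat.cast_add]
  ring

theorem small_false : False := by
  classical
  haveI : Nontrivial M := Module.nontrivial_of_finrank_pos (by omega : 0 < Module.finrank ℂ M)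
  haveI : Representation.IsIrreducible (ρ : Representation ℂ _ M) := by
    refine { exists_pair_ne := ⟨⊥, ⊤, fun h => bot_ne_top (congrArg Subrepresentation.toSubmodule h)⟩,
             eq_bot_or_eq_top := fun W => ?_ }
    · rcases hirr W.toSubmodule (fun g x hx => W.apply_mem_toSubmodule g hx) with h | h
      · exact Or.inl (Subrepresentation.toSubmodule_injective h)
      · exact Or.inr (Subrepresentation.toSubmodule_injective h)
  set g0 : OmP F (k + 1 + 1) := piP hn (stdPair (F := F) (k := k))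
  have hint := Cfsg.Lib.Chars.isIntegral_centralChar (ρ : Representation ℂ _ M) g0
  rw [← Cfsg.Lib.Chars.card_isConj] at hint
  have htr : Representation.character (ρ : Representation ℂ _ M) g0 =
      (Module.finrank ℂ M : ℂ) - (Fintype.card F : ℂ) ^ (2 * k + 1) := trace_std hn ρ hirr hd hk hq hs
  rw [htr] at hint
  obtain ⟨hdim, -, -⟩ := shape hn ρ hirr hd hk hq hs
  have hlow := ff_lower hn ρ hirr hd hk hq hs
  have hN := card_dec (F := F) (k := k) (by omega)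
  have hK := (card_class_eq (F := F) hn hk).trans (card_PPair hk)
  set d := Module.finrank ℂ M
  set K := Nat.card {x : OmP F (k + 1 + 1) // IsConj g0 x}
  set q := Fintype.card F
  set N := Nat.card {L : Module.Dual F (AltM F (k + 1 + 1)) // Dec L}
  obtain ⟨z, hz⟩ := Cfsg.Lib.Chars.int_of_isIntegral_rat (q := (K : ℚ) * ((d : ℚ) - (q : ℚ) ^ (2 * k + 1)) / d)
    (by push_cast; exact hint)
  have hdvd : (d : ℤ) ∣ (K : ℤ) * ((q ^ (2 * k + 1) : ℕ) : ℤ) := by
    refine ⟨(K : ℤ) - z, ?_⟩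
    rw [div_eq_iff (by norm_cast; omega)] at hz
    have : (((K : ℤ) * ((q ^ (2 * k + 1) : ℕ) : ℤ) : ℤ) : ℚ) = ((d * ((K : ℤ) - z) : ℤ) : ℚ) := by
      push_cast; linear_combination -hz
    exact_mod_cast this
  -- numerical data
  have hS := S_mul q (k + 1 + 1) (by omega)
  set s := S q (k + 1 + 1)
  have hq1 : 1 ≤ q := by omega
  have hq2 : 1 ≤ q ^ 2 := Nat.one_le_pow _ _ hq1
  obtain ⟨y, hy⟩ : ∃ y, q ^ k = y := ⟨_, rfl⟩
  have hy2 : q ^ 2 ≤ y := hy ▸ Nat.pow_le_pow_right hq1 hk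
  have hx : q ^ (k + 1) = y * q := by rw [pow_succ, hy]
  have hxx : q ^ (k + 1 + 1) = y * q * q := by rw [pow_succ, hx]
  have hy0 : 0 < y := lt_of_lt_of_le (by positivity) hy2
  have hb1 : 1 ≤ y * q := Nat.mul_pos hy0 (by omega)
  have hb2 : 1 ≤ y * q * q := Nat.mul_pos hb1 (by omega)
  have hb3 : q ≤ y * q * q := Nat.le_mul_of_pos_left _ hb1
  rw [hxx] at hS hN
  rw [hxx, hx, hy] at hK
  rw [D0, hxx, hx] at hs
  have hsq : 1 ≤ s := by
    rcases Nat.eq_zero_or_pos s with h | h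
    · exfalso
      rw [h, zero_mul] at hS
      have h4 : 4 ≤ y * q * q := le_trans hq hb3
      omega
    · exact h
  have hq' : (4 : ℤ) ≤ q := by exact_mod_cast hq
  have hy' : (q : ℤ) ^ 2 ≤ y := by exact_mod_cast hy2
  zify [hq1, hq2, hb1, hb2, hb3] at hS hN hK hs
  have hNeq : (N : ℤ) * ((q : ℤ) ^ 2 - 1) = ((y : ℤ) * q * q - 1) * ((y : ℤ) * q - 1) :=
    mul_left_cancel₀ (show (q : ℤ) ≠ 0 by positivity) (by linear_combination hN)
  have hdim' : (d : ℤ) = (ff hn ρ : ℤ) + N := by exact_mod_cast hdim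
  have hlow' : (s : ℤ) - 1 ≤ (ff hn ρ : ℤ) := by
    have := (Int.ofNat_le.mpr hlow : ((s - 1 : ℕ) : ℤ) ≤ _)
    rwa [Nat.cast_sub hsq] at this
  have hq2' : (0 : ℤ) < (q : ℤ) ^ 2 - 1 := by nlinarith
  have hff : (ff hn ρ : ℤ) = (s : ℤ) - 1 := by
    by_contra hne
    have h1 : (s : ℤ) ≤ (ff hn ρ : ℤ) := by omega
    have h2 := mul_le_mul_of_nonneg_left h1 hq2'.le
    rw [hdim', mul_add, mul_comm ((q : ℤ) ^ 2 - 1) (N : ℤ), hNeq,
      show ((q : ℤ) ^ 2 - 1) = ((q : ℤ) + 1) * ((q : ℤ) - 1) by ring] at hs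
    rw [show ((q : ℤ) ^ 2 - 1) * (s : ℤ) = ((q : ℤ) + 1) * ((s : ℤ) * ((q : ℤ) - 1)) by ring,
      show (s : ℤ) * ((q : ℤ) - 1) = (y : ℤ) * q * q - 1 by linear_combination hS,
      show ((q : ℤ) ^ 2 - 1) = ((q : ℤ) + 1) * ((q : ℤ) - 1) by ring] at h2
    nlinarith
  have hD : ((q : ℤ) ^ 2 - 1) * d =
      ((y : ℤ) * q * q - 1) * ((y : ℤ) * q + q) - ((q : ℤ) ^ 2 - 1) := by
    rw [hdim', hff, mul_add, mul_comm ((q : ℤ) ^ 2 - 1) (N : ℤ), hNeq]
    linear_combination ((q : ℤ) + 1) * hS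
  set D : ℤ := ((q : ℤ) ^ 2 - 1) * d with hDdef
  have hcop : IsCoprime (d : ℤ) (((q ^ (2 * k + 1) : ℕ) : ℤ)) := by
    push_cast
    refine IsCoprime.pow_right ⟨(q : ℤ) ^ 2 - 1, -((y : ℤ) * q * y * q + y * q * q - y - 1 - q), ?_⟩
    linear_combination hD
  have hdK : (d : ℤ) ∣ (K : ℤ) := hcop.dvd_of_dvd_mul_right hdvd
  have hK' : ((q : ℤ) ^ 2 - 1) * K * q = ((y : ℤ) * q * q - 1) * ((y : ℤ) * q + 1) * ((y : ℤ) * q - 1) * ((y : ℤ) * q + q) := by
    linear_combination hK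
  have h3 : D ∣ ((y : ℤ) * q * q - 1) * ((y : ℤ) * q + q) * (((y : ℤ) * q + 1) * ((y : ℤ) * q - 1)) := by
    refine (mul_dvd_mul_left ((q : ℤ) ^ 2 - 1) hdK).trans ⟨q, ?_⟩
    linear_combination -hK'
  have h4 : D ∣ ((q : ℤ) ^ 2 - 1) * (((y : ℤ) * q + 1) * ((y : ℤ) * q - 1)) := by
    have e : ((y : ℤ) * q * q - 1) * ((y : ℤ) * q + q) = D + ((q : ℤ) ^ 2 - 1) := by rw [hD]; ring
    rw [e, add_mul] at h3
    exact (dvd_add_right (dvd_mul_right D _)).mp h3
  set E : ℤ := (y : ℤ) * q * q + q ^ 2 + q - 1 with hE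
  have hDE : D = ((y : ℤ) * q - 1) * E := by rw [hD, hE]; ring
  have hx1 : (y : ℤ) * q - 1 ≠ 0 := by nlinarith
  have h5 : E ∣ ((q : ℤ) ^ 2 - 1) * ((y : ℤ) * q + 1) := by
    rw [hDE, show ((q : ℤ) ^ 2 - 1) * (((y : ℤ) * q + 1) * ((y : ℤ) * q - 1)) =
      ((y : ℤ) * q - 1) * (((q : ℤ) ^ 2 - 1) * ((y : ℤ) * q + 1)) by ring] at h4
    exact (mul_dvd_mul_iff_left hx1).mp h4
  have h6 : E ∣ ((q : ℤ) ^ 2 - 1) ^ 2 := by
    have h7 : E ∣ ((q : ℤ) ^ 2 - 1) * E - q * (((q : ℤ) ^ 2 - 1) * ((y : ℤ) * q + 1)) :=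
      dvd_sub (dvd_mul_left _ _) (dvd_mul_of_dvd_right h5 _)
    refine h7.trans (dvd_of_eq ?_)
    rw [hE]; ring
  have h8 := Int.le_of_dvd (by positivity) h6
  rw [hE] at h8
  nlinarith [mul_le_mul_of_nonneg_right hy' (show (0 : ℤ) ≤ (q : ℤ) * q by positivity)]

end Cfsg.Lib.OrthMinDeg
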