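import Cfsg.Agent.Known.OrthMinDegree.Alt

/-! Counting decomposable functionals. -/

set_option autoImplicit false
set_option linter.unusedSectionVars false

open Matrix Cfsg.Lib.SLMinDeg

namespace Cfsg.Lib.OrthMinDeg

variable {F : Type*} [Field F] {k : ℕ}

theorem luv_eq_of_bf {u v : Fin (k + 1 + 1) → F} (hu : u 0 = 1) (hu' : u 1 = 0) (hv : v 0 = 0) (hv' : v 1 = 1)
    (j : Fin (k + 1 + 1)) :
    bf (luv u v) (Pi.single 0 1) (Pi.single j 1) = v j ∨ j = 0 := by
  by_cases hj : j = 0
  · exact Or.inr hj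
  · left; rw [bf_luv]; simp [dotProduct_single, hu, hv]

/-- The decomposable functionals with value `c` on the first wedge. -/
def DecC (F : Type*) [Field F] (k : ℕ) (c : F) : Type _ :=
  {L : Module.Dual F (AltM F (k + 1 + 1)) // Dec L ∧ bf L (Pi.single 0 1) (Pi.single 1 1) = c}

variable [Fintype F]

instance : Finite (Module.Dual F (AltM F (k + 1 + 1))) := Module.finite_of_finite F

theorem card_decC_one : Nat.card (DecC F k 1) = Fintype.card F ^ (2 * k) := by
  classical
  let mk : (Fin k → F) × (Fin k → F) → DecC F k 1 := fun p =>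
    ⟨luv (Fin.cons 1 (Fin.cons 0 p.1)) (Fin.cons 0 (Fin.cons 1 p.2)),
      ⟨fun e => by
        have := congrArg (fun M => bf M (Pi.single 0 (1 : F)) (Pi.single 1 1)) e
        simp [bf_luv, bf_apply (0 : Module.Dual F (AltM F (k + 1 + 1))), dotProduct_single,
          show ∀ x y : F, ∀ w : Fin k → F, (Fin.cons x (Fin.cons y w) : Fin (k + 1 + 1) → F) 1 = y from
            fun _ _ _ => rfl] at this,
      _, _, rfl⟩, by
        rw [bf_luv]
        simp [dotProduct_single,
          show ∀ x y : F, ∀ w : Fin k → F, (Fin.cons x (Fin.cons y w) : Fin (k + 1 + 1) → F) 1 = y from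
            fun _ _ _ => rfl]⟩
  have h : Function.Bijective mk := by
    refine ⟨fun p p' e => ?_, fun L => ?_⟩
    · have h1 := congrArg Subtype.val e
      have h0 : ∀ j : Fin k, p.2 j = p'.2 j := fun j => by
        have := congrArg (fun M => bf M (Pi.single 0 (1 : F)) (Pi.single j.succ.succ 1)) h1
        simpa [mk, bf_luv, dotProduct_single] using this
      have h0' : ∀ j : Fin k, p.1 j = p'.1 j := fun j => by
        have := congrArg (fun M => bf M (Pi.single 1 (1 : F)) (Pi.single j.succ.succ 1)) h1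
        simpa [mk, bf_luv, dotProduct_single, show ∀ x y : F, ∀ w : Fin k → F,
          (Fin.cons x (Fin.cons y w) : Fin (k + 1 + 1) → F) 1 = y from fun _ _ _ => rfl] using this
      exact Prod.ext (funext h0') (funext h0)
    · obtain ⟨L, ⟨h0, u, v, rfl⟩, h1⟩ := L
      rw [bf_luv, dotProduct_single, dotProduct_single, dotProduct_single, dotProduct_single] at h1
      simp only [mul_one] at h1
      refine ⟨(Fin.tail (Fin.tail (v 1 • u + (-u 1) • v)), Fin.tail (Fin.tail ((-v 0) • u + u 0 • v))),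
        Subtype.ext ?_⟩
      show luv _ _ = luv u v
      have e1 : (Fin.cons 1 (Fin.cons 0 (Fin.tail (Fin.tail (v 1 • u + (-u 1) • v)))) : Fin (k + 1 + 1) → F) =
          v 1 • u + (-u 1) • v := by
        ext i
        cases i using Fin.cases with
        | zero => simp; linear_combination -h1
        | succ i => cases i using Fin.cases with
          | zero => simp; ring
          | succ i => simp [Fin.tail]
      have e2 : (Fin.cons 0 (Fin.cons 1 (Fin.tail (Fin.tail ((-v 0) • u + u 0 • v)))) : Fin (k + 1 + 1) → F) =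
          (-v 0) • u + u 0 • v := by
        ext i
        cases i using Fin.cases with
        | zero => simp; ring
        | succ i => cases i using Fin.cases with
          | zero => simp; linear_combination -h1
          | succ i => simp [Fin.tail]
      rw [e1, e2, luv_comb, show v 1 * u 0 - -u 1 * -v 0 = 1 by linear_combination h1, one_smul]
  rw [← Nat.card_congr (Equiv.ofBijective mk h), Nat.card_prod, Nat.card_eq_fintype_card, Fintype.card_fun,
    Fintype.card_fin, ← pow_add, two_mul]

omit [Fintype F] in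
theorem Dec.smul {L : Module.Dual F (AltM F (k + 1 + 1))} (h : Dec L) {c : F} (hc : c ≠ 0) : Dec (c • L) := by
  obtain ⟨h0, u, v, rfl⟩ := h
  refine ⟨smul_ne_zero hc h0, c • u, v, ?_⟩
  have := luv_comb u v c 0 0 1
  simp only [zero_smul, add_zero, zero_add, one_smul, mul_one, zero_mul, sub_zero] at this
  exact this.symm

theorem card_decC {c : F} (hc : c ≠ 0) : Nat.card (DecC F k c) = Fintype.card F ^ (2 * k) := by
  rw [← card_decC_one (F := F) (k := k)]
  exact (Nat.card_congr
    { toFun := fun L : DecC F k 1 => (⟨c • L.1, L.2.1.smul hc, by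
        have h := L.2.2; rw [bf_apply] at h ⊢
        rw [LinearMap.smul_apply, h, smul_eq_mul, mul_one]⟩ : DecC F k c)
      invFun := fun L : DecC F k c => (⟨c⁻¹ • L.1, L.2.1.smul (inv_ne_zero hc), by
        have h := L.2.2; rw [bf_apply] at h ⊢
        rw [LinearMap.smul_apply, h, smul_eq_mul, inv_mul_cancel₀ hc]⟩ : DecC F k 1)
      left_inv := fun L => Subtype.ext (inv_smul_smul₀ hc L.1)
      right_inv := fun L => Subtype.ext (smul_inv_smul₀ hc L.1) }).symm

omit [Fintype F] in
/-- The functionals taking value one on two independent vectors, moved to the standard pair. -/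
theorem dec_one_move (hk : 1 ≤ k) {a b : Fin (k + 1 + 1) → F} (h : wd a b ≠ 0) :
    Nonempty ({L : Module.Dual F (AltM F (k + 1 + 1)) // Dec L ∧ bf L a b = 1} ≃ DecC F k 1) := by
  obtain ⟨g, t, ha, hb⟩ := exists_pair hk h
  set M : Matrix (Fin (k + 1 + 1)) (Fin (k + 1 + 1)) F := (g : Matrix (Fin (k + 1 + 1)) (Fin (k + 1 + 1)) F) with hM
  set M' : Matrix (Fin (k + 1 + 1)) (Fin (k + 1 + 1)) F :=
    ((g⁻¹ : Matrix.SpecialLinearGroup (Fin (k + 1 + 1)) F) : Matrix (Fin (k + 1 + 1)) (Fin (k + 1 + 1)) F) with hM'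
  have h1 : M * M' = 1 := by
    rw [hM, hM', ← Matrix.SpecialLinearGroup.coe_mul, mul_inv_cancel, Matrix.SpecialLinearGroup.coe_one]
  have h2 : M' * M = 1 := by
    rw [hM, hM', ← Matrix.SpecialLinearGroup.coe_mul, inv_mul_cancel, Matrix.SpecialLinearGroup.coe_one]
  have key : ∀ L : Module.Dual F (AltM F (k + 1 + 1)),
      bf (L.comp (cg M)) (Pi.single 0 1) (Pi.single 1 1) = bf L a b := fun L => by
    rw [bf_comp, ha, hb, map_add, map_smul, bf_self, smul_zero, add_zero]
  refine ⟨{ toFun := fun L => ⟨L.1.comp (cg M), L.2.1.comp h1, (key _).trans L.2.2⟩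
            invFun := fun L => ⟨L.1.comp (cg M'), L.2.1.comp h2, ?_⟩
            left_inv := fun L => Subtype.ext ?_
            right_inv := fun L => Subtype.ext ?_ }⟩
  · rw [← key, comp_cg_mul, h2, comp_cg_one]; exact L.2.2
  · show (L.1.comp (cg M)).comp (cg M') = L.1
    rw [comp_cg_mul, h1, comp_cg_one]
  · show (L.1.comp (cg M')).comp (cg M) = L.1
    rw [comp_cg_mul, h2, comp_cg_one]

theorem card_det_one : Nat.card {p : (F × F) × (F × F) // p.1.1 * p.2.2 - p.1.2 * p.2.1 = 1} =
    Fintype.card F * (Fintype.card F ^ 2 - 1) := by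
  classical
  let e : {p : (F × F) × (F × F) // p.1.1 * p.2.2 - p.1.2 * p.2.1 = 1} ≃ {x : F × F // x ≠ 0} × F :=
    { toFun := fun p => (⟨p.1.1, fun e => by
          have h := p.2; rw [e] at h; simp at h⟩, if p.1.1.1 = 0 then p.1.2.2 else p.1.2.1)
      invFun := fun q => if h : q.1.1.1 = 0 then
          ⟨(q.1.1, (-(q.1.1.2)⁻¹, q.2)), by
            have h2 : q.1.1.2 ≠ 0 := fun e => q.1.2 (Prod.ext h e)
            show q.1.1.1 * q.2 - q.1.1.2 * -(q.1.1.2)⁻¹ = 1
            rw [h, mul_neg, mul_inv_cancel₀ h2]; ring⟩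
        else ⟨(q.1.1, (q.2, (1 + q.1.1.2 * q.2) / q.1.1.1)), by
            show q.1.1.1 * _ - q.1.1.2 * q.2 = 1
            rw [mul_div_cancel₀ _ h]; ring⟩
      left_inv := fun p => by
        obtain ⟨⟨⟨a, b⟩, c, d⟩, hp⟩ := p
        by_cases h : a = 0
        · have hb : b ≠ 0 := fun e => by simp [h, e] at hp
          apply Subtype.ext
          simp only [h, dite_true, if_true]
          refine Prod.ext rfl (Prod.ext ?_ rfl)
          simp only [h, zero_mul, zero_sub] at hp
          show -b⁻¹ = c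
          field_simp
          linear_combination hp
        · apply Subtype.ext
          simp only [h, dite_false, if_false]
          refine Prod.ext rfl (Prod.ext rfl ?_)
          show (1 + b * c) / a = d
          rw [div_eq_iff h]; linear_combination -hp
      right_inv := fun q => by
        obtain ⟨⟨⟨a, b⟩, hab⟩, t⟩ := q
        by_cases h : a = 0
        · simp [h]
        · simp [h] }
  rw [Nat.card_congr e, Nat.card_prod, Nat.card_eq_fintype_card, Fintype.card_subtype_compl, Fintype.card_subtype_eq,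
    Fintype.card_prod, Nat.card_eq_fintype_card, sq, mul_comm]

/-- Pairs on which a given functional takes value one. -/
theorem card_pairs_one (hk : 1 ≤ k) {L : Module.Dual F (AltM F (k + 1 + 1))} (hL : Dec L) :
    Nat.card {p : (Fin (k + 1 + 1) → F) × (Fin (k + 1 + 1) → F) // bf L p.1 p.2 = 1} =
      Fintype.card F * (Fintype.card F ^ 2 - 1) * Fintype.card F ^ (2 * k) := by
  classical
  obtain ⟨g, rfl⟩ := exists_dec_move hk hL
  set M : Matrix (Fin (k + 1 + 1)) (Fin (k + 1 + 1)) F := (g : Matrix (Fin (k + 1 + 1)) (Fin (k + 1 + 1)) F) with hM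
  let E : (Fin (k + 1 + 1) → F) ≃ (Fin (k + 1 + 1) → F) :=
    { toFun := fun v => M *ᵥ v
      invFun := fun v => ((g⁻¹ : Matrix.SpecialLinearGroup (Fin (k + 1 + 1)) F) : Matrix _ _ F) *ᵥ v
      left_inv := fun v => by
        simp only [hM, mulVec_mulVec, ← Matrix.SpecialLinearGroup.coe_mul, inv_mul_cancel,
          Matrix.SpecialLinearGroup.coe_one, one_mulVec]
      right_inv := fun v => by
        simp only [hM, mulVec_mulVec, ← Matrix.SpecialLinearGroup.coe_mul, mul_inv_cancel,
          Matrix.SpecialLinearGroup.coe_one, one_mulVec] }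
  rw [Nat.card_congr ((E.prodCongr E).subtypeEquiv (q := fun p : (Fin (k + 1 + 1) → F) × (Fin (k + 1 + 1) → F) =>
    p.1 0 * p.2 1 - p.1 1 * p.2 0 = 1) fun p => ?_)]
  · let e : {p : (Fin (k + 1 + 1) → F) × (Fin (k + 1 + 1) → F) // p.1 0 * p.2 1 - p.1 1 * p.2 0 = 1} ≃
        {p : (F × F) × (F × F) // p.1.1 * p.2.2 - p.1.2 * p.2.1 = 1} × (Fin k → F) × (Fin k → F) :=
      { toFun := fun p => (⟨((p.1.1 0, p.1.1 1), (p.1.2 0, p.1.2 1)), p.2⟩,
          (Fin.tail (Fin.tail p.1.1), Fin.tail (Fin.tail p.1.2)))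
        invFun := fun q => ⟨(Fin.cons q.1.1.1.1 (Fin.cons q.1.1.1.2 q.2.1),
          Fin.cons q.1.1.2.1 (Fin.cons q.1.1.2.2 q.2.2)), q.1.2⟩
        left_inv := fun p => Subtype.ext (Prod.ext
          (funext fun i => by cases i using Fin.cases with
            | zero => rfl
            | succ i => cases i using Fin.cases <;> rfl)
          (funext fun i => by cases i using Fin.cases with
            | zero => rfl
            | succ i => cases i using Fin.cases <;> rfl))
        right_inv := fun q => rfl }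
    rw [Nat.card_congr e, Nat.card_prod, card_det_one, Nat.card_prod, Nat.card_eq_fintype_card, Fintype.card_fun,
      Fintype.card_fin, ← pow_add, two_mul]
  · show _ ↔ (M *ᵥ p.1) 0 * (M *ᵥ p.2) 1 - (M *ᵥ p.1) 1 * (M *ᵥ p.2) 0 = 1
    rw [bf_comp, bf_luv]
    simp only [single_dotProduct, one_mul]
    rw [mul_comm ((M *ᵥ p.1) 1)]

omit [Fintype F] in
theorem wd_eq_zero_iff {n : ℕ} {a b : Fin n → F} : wd a b = 0 ↔ a = 0 ∨ b ∈ Submodule.span F {a} := by
  constructor
  · intro e
    by_cases ha : a = 0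
    · exact Or.inl ha
    obtain ⟨x, hx⟩ := Function.ne_iff.mp ha
    refine Or.inr (Submodule.mem_span_singleton.mpr ⟨b x / a x, funext fun y => ?_⟩)
    have := congrArg (fun B : AltM F n => (B : Matrix (Fin n) (Fin n) F) x y) e
    simp [coe_wd, wedge, vecMulVec_apply] at this
    rw [Pi.smul_apply, smul_eq_mul, div_mul_eq_mul_div, div_eq_iff hx]
    linear_combination -this
  · rintro (rfl | h)
    · rw [← zero_smul F (0 : Fin n → F), wd_smul_left, zero_smul]
    · obtain ⟨c, rfl⟩ := Submodule.mem_span_singleton.mp h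
      rw [wd_smul_right, wd_self, smul_zero]

theorem card_indep {n : ℕ} : Nat.card {p : (Fin n → F) × (Fin n → F) // wd p.1 p.2 ≠ 0} =
    (Fintype.card F ^ n - 1) * (Fintype.card F ^ n - Fintype.card F) := by
  classical
  let e : {p : (Fin n → F) × (Fin n → F) // wd p.1 p.2 ≠ 0} ≃
      Σ a : {a : Fin n → F // a ≠ 0}, {b : Fin n → F // b ∉ Submodule.span F {a.1}} :=
    { toFun := fun p => ⟨⟨p.1.1, fun e => p.2 (wd_eq_zero_iff.mpr (Or.inl e))⟩,
        ⟨p.1.2, fun e => p.2 (wd_eq_zero_iff.mpr (Or.inr e))⟩⟩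
      invFun := fun q => ⟨(q.1.1, q.2.1), fun e => (wd_eq_zero_iff.mp e).elim q.1.2 q.2.2⟩
      left_inv := fun p => rfl
      right_inv := fun q => rfl }
  have hfib : ∀ a : {a : Fin n → F // a ≠ 0}, Nat.card {b : Fin n → F // b ∉ Submodule.span F {a.1}} =
      Fintype.card F ^ n - Fintype.card F := fun a => by
    rw [Nat.card_eq_fintype_card, Fintype.card_subtype_compl, Fintype.card_fun, Fintype.card_fin]
    congr 1
    rw [← Nat.card_eq_fintype_card, show Nat.card {b : Fin n → F // b ∈ Submodule.span F {a.1}} =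
      Nat.card ↥(Submodule.span F {a.1}) from rfl, Module.natCard_eq_pow_finrank (K := F),
      finrank_span_singleton a.2, pow_one, Nat.card_eq_fintype_card]
  rw [Nat.card_congr e, Nat.card_sigma, Finset.sum_congr rfl fun a _ => hfib a, Finset.sum_const, Finset.card_univ,
    smul_eq_mul, ← Nat.card_eq_fintype_card, card_fun_ne_zero]

/-- The number of decomposable functionals. -/
theorem card_dec (hk : 1 ≤ k) :
    Nat.card {L : Module.Dual F (AltM F (k + 1 + 1)) // Dec L} * (Fintype.card F * (Fintype.card F ^ 2 - 1)) =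
      (Fintype.card F ^ (k + 1 + 1) - 1) * (Fintype.card F ^ (k + 1 + 1) - Fintype.card F) := by
  classical
  haveI := Fintype.ofFinite (Module.Dual F (AltM F (k + 1 + 1)))
  let e : (Σ L : {L : Module.Dual F (AltM F (k + 1 + 1)) // Dec L},
        {p : (Fin (k + 1 + 1) → F) × (Fin (k + 1 + 1) → F) // bf L.1 p.1 p.2 = 1}) ≃
      Σ p : {p : (Fin (k + 1 + 1) → F) × (Fin (k + 1 + 1) → F) // wd p.1 p.2 ≠ 0},
        {L : Module.Dual F (AltM F (k + 1 + 1)) // Dec L ∧ bf L p.1.1 p.1.2 = 1} :=
    { toFun := fun x => ⟨⟨x.2.1, fun e => by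
          have h := x.2.2; rw [bf_apply, e, map_zero] at h; exact zero_ne_one h⟩, ⟨x.1.1, x.1.2, x.2.2⟩⟩
      invFun := fun y => ⟨⟨y.2.1, y.2.2.1⟩, ⟨y.1.1, y.2.2.2⟩⟩
      left_inv := fun x => rfl
      right_inv := fun y => rfl }
  have h := Nat.card_congr e
  rw [Nat.card_sigma, Nat.card_sigma, Finset.sum_congr rfl (fun L _ => card_pairs_one hk L.2),
    Finset.sum_congr rfl (fun p _ => (Nat.card_congr (dec_one_move hk p.2).some).trans card_decC_one),
    Finset.sum_const, Finset.sum_const, Finset.card_univ, Finset.card_univ,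
    ← Nat.card_eq_fintype_card (α := {L : Module.Dual F (AltM F (k + 1 + 1)) // Dec L}),
    ← Nat.card_eq_fintype_card (α := {p : (Fin (k + 1 + 1) → F) × (Fin (k + 1 + 1) → F) // wd p.1 p.2 ≠ 0}),
    smul_eq_mul, smul_eq_mul, card_indep] at h
  refine Nat.eq_of_mul_eq_mul_right (pow_pos (Fintype.card_pos (α := F)) (2 * k)) ?_
  exact (mul_assoc _ _ _).trans h

end Cfsg.Lib.OrthMinDeg
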