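import Cfsg.Agent.Known.OrthMinDegree.Omega
import Cfsg.Agent.Known.OrthMinDegree.Count
import Cfsg.Agent.Classical.Orth.Orders

/-! The class of the root elements of `Ω⁺`. -/

set_option autoImplicit false
set_option linter.unusedSectionVars false
set_option linter.style.haveILetI false

open Matrix Cfsg.Lib.Classical Cfsg.Lib.Classical.Refl Cfsg.Lib.Classical.HypQuad Cfsg.Lib.SLMinDeg

namespace Cfsg.Lib.OrthMinDeg

variable {F : Type*} [Field F] [Fintype F] {k : ℕ}

variable (F k) in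
/-- Independent orthogonal singular pairs. -/
abbrev PPair := {p : (Fin (k + 1 + 1) ⊕ Fin (k + 1 + 1) → F) × (Fin (k + 1 + 1) ⊕ Fin (k + 1 + 1) → F) //
  plusForm (k + 1 + 1) F p.1 = 0 ∧ plusForm (k + 1 + 1) F p.2 = 0 ∧
    QuadraticMap.polar (⇑(plusForm (k + 1 + 1) F)) p.1 p.2 = 0 ∧ p.1 ≠ 0 ∧ p.2 ∉ Submodule.span F {p.1}}

variable (F k) in
/-- The first vector of the standard pair. -/
abbrev pu : Fin (k + 1 + 1) ⊕ Fin (k + 1 + 1) → F := inL (Pi.single 1 1)

variable (F k) in
/-- The second vector of the standard pair. -/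
abbrev pz : Fin (k + 1 + 1) ⊕ Fin (k + 1 + 1) → F := inL (Pi.single 0 1)

theorem pu_ne : pu F k ≠ 0 := fun e => one_ne_zero (α := F) (by
  simpa [inL] using congrFun e (Sum.inl 1))

theorem pz_notin : pz F k ∉ Submodule.span F {pu F k} := fun h => by
  obtain ⟨c, hc⟩ := Submodule.mem_span_singleton.mp h
  have h1 := congrFun hc (Sum.inl 0)
  simp [inL] at h1

theorem siegelMap_sing {ι : Type} [Fintype ι] [DecidableEq ι] (Q : QuadraticForm F (ι → F)) {u z : ι → F}
    (hz : Q z = 0) (x : ι → F) :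
    siegelMap Q u z x = x + (QuadraticMap.polar (⇑Q) u x • z - QuadraticMap.polar (⇑Q) z x • u) := by
  rw [siegelMap, hz, zero_mul, sub_zero, neg_smul, add_assoc, sub_eq_add_neg]

/-- Any pair comes from the standard one by an element of `Ω`. -/
theorem exists_move (hk : 2 ≤ k) (p : PPair F k) :
    ∃ g : OmP F (k + 1 + 1), mat (plusForm (k + 1 + 1) F) g.1 *ᵥ pu F k = p.1.1 ∧
      mat (plusForm (k + 1 + 1) F) g.1 *ᵥ pz F k = p.1.2 := by
  classical
  obtain ⟨⟨u, z⟩, hu, hz, huz, hu0, hzu⟩ := p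
  have hQ := plusForm_nondegenerate (F := F) (k + 1 + 1)
  obtain ⟨e₁, he₁, -, hm₁⟩ := WittQuad.exists_move_fix (plusForm (k + 1 + 1) F) hQ ⊥ (a := pu F k) (b := u)
    (by rw [Submodule.mem_bot]; exact pu_ne) (by rw [Submodule.mem_bot]; exact hu0) (by rw [plus_inL, hu])
    (fun w hw => by rw [(Submodule.mem_bot F).mp hw]; simp)
  have hz' : e₁ (pz F k) ∉ Submodule.span F {u} := fun h => pz_notin (F := F) (k := k) (by
    obtain ⟨c, hc⟩ := Submodule.mem_span_singleton.mp h
    exact Submodule.mem_span_singleton.mpr ⟨c, e₁.injective (by rw [map_smul, hm₁, hc])⟩)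
  have hp : ∀ x y, QuadraticMap.polar (⇑(plusForm (k + 1 + 1) F)) (e₁ x) (e₁ y) =
      QuadraticMap.polar (⇑(plusForm (k + 1 + 1) F)) x y := fun x y => by
    simp only [QuadraticMap.polar, ← map_add, he₁]
  obtain ⟨e₂, he₂, hf₂, hm₂⟩ := WittQuad.exists_move_fix (plusForm (k + 1 + 1) F) hQ (Submodule.span F {u})
    (a := e₁ (pz F k)) (b := z) hz' hzu (by rw [he₁, plus_inL, hz]) (fun w hw => by
      obtain ⟨c, rfl⟩ := Submodule.mem_span_singleton.mp hw
      rw [QuadraticMap.polar_smul_left, QuadraticMap.polar_smul_left, huz]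
      conv_lhs => arg 2; rw [← hm₁, hp, polar_inL_inL])
  obtain ⟨g, hg⟩ := exists_of_equiv (plusForm (k + 1 + 1) F) (e₁.trans e₂) fun x => by
    rw [LinearEquiv.trans_apply, he₂, he₁]
  set S := Submodule.span F ({pu F k, pz F k} : Set (Fin (k + 1 + 1) ⊕ Fin (k + 1 + 1) → F)) with hS
  have hdim : Module.finrank F S ≤ 2 := by
    refine (finrank_span_le_card _).trans ?_
    rw [Set.toFinset_insert, Set.toFinset_singleton]
    exact Finset.card_le_two
  obtain ⟨g', hg', hag⟩ := exists_omega_agree (plusForm (k + 1 + 1) F) hQ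
    (by simp only [Fintype.card_sum, Fintype.card_fin]; omega) S
    (by simp only [Fintype.card_sum, Fintype.card_fin]; omega) g
  refine ⟨⟨g', hg'⟩, ?_, ?_⟩
  · rw [hag _ (Submodule.subset_span (by simp)), hg, LinearEquiv.trans_apply, hm₁,
      hf₂ u (Submodule.mem_span_singleton_self u)]
  · rw [hag _ (Submodule.subset_span (by simp)), hg, LinearEquiv.trans_apply, hm₂]

variable (hn : 3 ≤ k + 1 + 1)

/-- The root element of a pair. -/
noncomputable def piP (p : PPair F k) : OmP F (k + 1 + 1) := sgG hn p.2.1 p.2.2.2.1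

/-- The standard pair. -/
def stdPair : PPair F k :=
  ⟨(pu F k, pz F k), plus_inL _, plus_inL _, polar_inL_inL _ _, pu_ne, pz_notin⟩

theorem piP_std : piP hn (stdPair (F := F) (k := k)) = xG hn (wd (Pi.single 0 1) (Pi.single 1 1)) :=
  (xG_wd hn _ _).symm

theorem sgG_conj (g : OmP F (k + 1 + 1)) {u z u' z' : Fin (k + 1 + 1) ⊕ Fin (k + 1 + 1) → F}
    {hu : plusForm _ F u = 0} {huz : QuadraticMap.polar (⇑(plusForm (k + 1 + 1) F)) u z = 0}
    {hu' : plusForm _ F u' = 0} {huz' : QuadraticMap.polar (⇑(plusForm (k + 1 + 1) F)) u' z' = 0}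
    (eu : mat (plusForm (k + 1 + 1) F) g.1 *ᵥ u = u') (ez : mat (plusForm (k + 1 + 1) F) g.1 *ᵥ z = z') :
    g * sgG hn hu huz * g⁻¹ = sgG hn hu' huz' := by
  refine Subtype.ext ?_
  show g.1 * siegelG _ hu huz * g.1⁻¹ = siegelG _ hu' huz'
  rw [siegelG_conj]
  exact siegelG_congr _ _ _ _ eu ez

theorem isConj_piP (hk : 2 ≤ k) (p : PPair F k) : IsConj (piP hn stdPair) (piP hn p) := by
  obtain ⟨g, hu, hz⟩ := exists_move hk p
  exact isConj_iff.mpr ⟨g, sgG_conj hn g hu hz⟩

theorem sgG_eq_one {u z : Fin (k + 1 + 1) ⊕ Fin (k + 1 + 1) → F} {hu : plusForm _ F u = 0}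
    {huz : QuadraticMap.polar (⇑(plusForm (k + 1 + 1) F)) u z = 0} (hz : plusForm _ F z = 0)
    (h : u = 0 ∨ z ∈ Submodule.span F {u}) : sgG hn hu huz = 1 := by
  refine Subtype.ext (ext_mulVec _ fun v => ?_)
  show mat _ (siegelG _ hu huz) *ᵥ v = mat _ 1 *ᵥ v
  rw [mat_siegelG, siegelMap_sing _ hz, show mat (plusForm (k + 1 + 1) F) 1 = 1 from rfl, one_mulVec]
  rcases h with h | h
  · simp [h]
  · obtain ⟨c, rfl⟩ := Submodule.mem_span_singleton.mp h
    rw [QuadraticMap.polar_smul_left, smul_smul, smul_eq_mul, mul_comm, sub_self, add_zero]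

theorem sgG_mem_normal (hk : 2 ≤ k) {N : Subgroup (OmP F (k + 1 + 1))} [N.Normal]
    (h0 : piP hn stdPair ∈ N) {u z : Fin (k + 1 + 1) ⊕ Fin (k + 1 + 1) → F} (hu : plusForm _ F u = 0)
    (huz : QuadraticMap.polar (⇑(plusForm (k + 1 + 1) F)) u z = 0) (hz : plusForm _ F z = 0) :
    sgG hn hu huz ∈ N := by
  by_cases h : u = 0 ∨ z ∈ Submodule.span F {u}
  · rw [sgG_eq_one hn hz h]; exact one_mem _
  push Not at h
  obtain ⟨g, e⟩ := isConj_iff.mp (isConj_piP hn hk ⟨(u, z), hu, hz, huz, h.1, h.2⟩)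
  rw [show sgG hn hu huz = piP hn ⟨(u, z), hu, hz, huz, h.1, h.2⟩ from rfl, ← e]
  exact Subgroup.Normal.conj_mem inferInstance _ h0 g

theorem normal_eq_top (hk : 2 ≤ k) {N : Subgroup (OmP F (k + 1 + 1))} [N.Normal]
    (h0 : piP hn stdPair ∈ N) : N = ⊤ := by
  refine eq_top_of_gens hn (fun A => ?_) (fun A => ?_) fun i j hij c => ?_
  · induction A using alt_induction with
    | h0 =>
      have h := xG_add hn (0 : AltM F (k + 1 + 1)) 0
      rw [add_zero] at h
      rw [left_eq_mul.mp h]; exact N.one_mem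
    | hadd A B hA hB => rw [xG_add]; exact N.mul_mem hA hB
    | hgen i j c _ => rw [xG_wd]; exact sgG_mem_normal hn hk h0 _ _ (plus_inL _)
  · induction A using alt_induction with
    | h0 =>
      have h := yG_add hn (0 : AltM F (k + 1 + 1)) 0
      rw [add_zero] at h
      rw [left_eq_mul.mp h]; exact N.one_mem
    | hadd A B hA hB => rw [yG_add]; exact N.mul_mem hA hB
    | hgen i j c _ => rw [yG_wd]; exact sgG_mem_normal hn hk h0 _ _ (plus_inR _)
  · rw [lvG_transvection]; exact sgG_mem_normal hn hk h0 _ _ (plus_inR _)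

/-- The pair of vectors recognised from the transformation. -/
theorem exists_det (hk : 2 ≤ k) (p : PPair F k) (e : piP hn p = piP hn stdPair) :
    ∃ a b c d : F, a * d - b * c = 1 ∧ p.1.1 = a • pu F k + b • pz F k ∧ p.1.2 = c • pu F k + d • pz F k := by
  obtain ⟨g, hgu, hgz⟩ := exists_move hk p
  set B := QuadraticMap.polar (⇑(plusForm (k + 1 + 1) F))
  have hT : ∀ v, B p.1.1 v • p.1.2 - B p.1.2 v • p.1.1 = B (pu F k) v • pz F k - B (pz F k) v • pu F k := fun v => by
    have h := congrArg (fun x : OmP F (k + 1 + 1) => mat (plusForm (k + 1 + 1) F) x.1 *ᵥ v) e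
    simp only [piP, sgG, mat_siegelG, siegelMap_sing _ p.2.2.1] at h
    rw [siegelMap_sing _ (stdPair (F := F) (k := k)).2.2.1] at h
    exact add_left_cancel h
  set v₁ := mat (plusForm (k + 1 + 1) F) g.1 *ᵥ inR (Pi.single 1 1)
  set v₂ := mat (plusForm (k + 1 + 1) F) g.1 *ᵥ inR (Pi.single 0 1)
  have a1 : B p.1.1 v₁ = 1 := by
    simp only [B]
    rw [← hgu, polar_act, polar_inL_inR, single_dotProduct, Pi.single_eq_same, mul_one]
  have a2 : B p.1.2 v₁ = 0 := by
    simp only [B]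
    rw [← hgz, polar_act, polar_inL_inR, single_dotProduct, Pi.single_eq_of_ne (by simp), mul_zero]
  have a3 : B p.1.1 v₂ = 0 := by
    simp only [B]
    rw [← hgu, polar_act, polar_inL_inR, single_dotProduct, Pi.single_eq_of_ne (by simp), mul_zero]
  have a4 : B p.1.2 v₂ = 1 := by
    simp only [B]
    rw [← hgz, polar_act, polar_inL_inR, single_dotProduct, Pi.single_eq_same, mul_one]
  have hz' := hT v₁
  rw [a1, a2, one_smul, zero_smul, sub_zero] at hz'
  have hu' := hT v₂
  rw [a3, a4, one_smul, zero_smul, zero_sub] at hu'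
  refine ⟨B (pz F k) v₂, -B (pu F k) v₂, -B (pz F k) v₁, B (pu F k) v₁, ?_, ?_, ?_⟩
  · set a := B (pz F k) v₂
    set b := -B (pu F k) v₂
    set c := -B (pz F k) v₁
    set d := B (pu F k) v₁
    have eu : p.1.1 = a • pu F k + b • pz F k := by
      rw [← neg_neg p.1.1, hu']; simp only [a, b]; module
    have ez : p.1.2 = c • pu F k + d • pz F k := by
      rw [hz']; simp only [c, d]; module
    have h := hT (inR (Pi.single 1 1))
    simp only [eu, ez, B, QuadraticMap.polar_add_left, QuadraticMap.polar_smul_left, polar_inL_inR, single_dotProduct,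
      smul_eq_mul] at h
    have h0 := congrFun h (Sum.inl 0)
    simp [inL] at h0
    linear_combination h0
  · rw [← neg_neg p.1.1, hu']; module
  · rw [hz']; module

theorem card_fibre (hk : 2 ≤ k) : Nat.card {p : PPair F k // piP hn p = piP hn stdPair} =
    Fintype.card F * (Fintype.card F ^ 2 - 1) := by
  classical
  rw [← card_det_one]
  have hQ : ∀ a b : F, plusForm (k + 1 + 1) F (a • pu F k + b • pz F k) = 0 := fun a b => by
    rw [← inL_smul, ← inL_smul, show inL (a • Pi.single 1 1) + inL (b • Pi.single 0 1) =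
      inL (a • Pi.single 1 1 + b • Pi.single 0 1 : Fin (k + 1 + 1) → F) by funext i; rcases i with i | i <;> simp [inL],
      plus_inL]
  have hB : ∀ a b c d : F, QuadraticMap.polar (⇑(plusForm (k + 1 + 1) F)) (a • pu F k + b • pz F k)
      (c • pu F k + d • pz F k) = 0 := fun a b c d => by
    simp [QuadraticMap.polar_add_left, QuadraticMap.polar_add_right, QuadraticMap.polar_smul_left,
      QuadraticMap.polar_smul_right, polar_inL_inL, pu, pz, plus_inL]
  have hco : ∀ a b : F, (a • pu F k + b • pz F k) (Sum.inl 1) = a ∧ (a • pu F k + b • pz F k) (Sum.inl 0) = b :=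
    fun a b => by simp [inL]
  let mk : {p : (F × F) × (F × F) // p.1.1 * p.2.2 - p.1.2 * p.2.1 = 1} →
      {p : PPair F k // piP hn p = piP hn stdPair} := fun q =>
    ⟨⟨(q.1.1.1 • pu F k + q.1.1.2 • pz F k, q.1.2.1 • pu F k + q.1.2.2 • pz F k),
      hQ _ _, hQ _ _, hB _ _ _ _, fun e => by
        have h1 : q.1.1.1 = 0 := by rw [← (hco q.1.1.1 q.1.1.2).1]; exact congrFun e _
        have h2 : q.1.1.2 = 0 := by rw [← (hco q.1.1.1 q.1.1.2).2]; exact congrFun e _
        have := q.2; rw [h1, h2] at this; simp at this,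
      fun h => by
        obtain ⟨t, ht⟩ := Submodule.mem_span_singleton.mp h
        have h1 := congrFun ht (Sum.inl 1)
        have h2 := congrFun ht (Sum.inl 0)
        simp only [Pi.smul_apply, (hco _ _).1, (hco _ _).2, smul_eq_mul] at h1 h2
        have := q.2; rw [← h1, ← h2] at this
        exact one_ne_zero (α := F) (this.symm.trans (by ring))⟩, by
      refine Subtype.ext (ext_mulVec _ fun v => ?_)
      simp only [piP, sgG, mat_siegelG]
      rw [siegelMap_sing _ (hQ _ _), siegelMap_sing _ (stdPair (F := F) (k := k)).2.2.1]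
      show v + _ = v + _
      simp only [stdPair, QuadraticMap.polar_add_left, QuadraticMap.polar_smul_left, smul_eq_mul]
      congr 1
      have := q.2
      funext i
      simp only [Pi.sub_apply, Pi.add_apply, Pi.smul_apply, smul_eq_mul]
      linear_combination (QuadraticMap.polar (⇑(plusForm (k + 1 + 1) F)) (pu F k) v * pz F k i -
        QuadraticMap.polar (⇑(plusForm (k + 1 + 1) F)) (pz F k) v * pu F k i) * this⟩
  refine (Nat.card_eq_of_bijective mk ⟨fun q q' e => ?_, fun p => ?_⟩).symm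
  · have e' : (q.1.1.1 • pu F k + q.1.1.2 • pz F k, q.1.2.1 • pu F k + q.1.2.2 • pz F k) =
        (q'.1.1.1 • pu F k + q'.1.1.2 • pz F k, q'.1.2.1 • pu F k + q'.1.2.2 • pz F k) :=
      congrArg (fun x : {p : PPair F k // piP hn p = piP hn stdPair} => x.1.1) e
    simp only [Prod.mk.injEq] at e'
    have h1 := congrFun e'.1 (Sum.inl 1)
    have h2 := congrFun e'.1 (Sum.inl 0)
    have h3 := congrFun e'.2 (Sum.inl 1)
    have h4 := congrFun e'.2 (Sum.inl 0)
    rw [(hco _ _).1, (hco _ _).1] at h1 h3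
    rw [(hco _ _).2, (hco _ _).2] at h2 h4
    exact Subtype.ext (Prod.ext (Prod.ext h1 h2) (Prod.ext h3 h4))
  · obtain ⟨a, b, c, d, hd, ha, hc⟩ := exists_det hn hk p.1 p.2
    exact ⟨⟨((a, b), (c, d)), hd⟩, Subtype.ext (Subtype.ext (Prod.ext ha.symm hc.symm))⟩

theorem card_fibre_any (hk : 2 ≤ k) (p₀ : PPair F k) : Nat.card {p : PPair F k // piP hn p = piP hn p₀} =
    Fintype.card F * (Fintype.card F ^ 2 - 1) := by
  rw [← card_fibre hn hk]
  obtain ⟨g, hu, hz⟩ := exists_move hk p₀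
  have hinv : ∀ (x : Cfsg.isometryGroup F (⇑(plusForm (k + 1 + 1) F))) v,
      mat (plusForm (k + 1 + 1) F) x *ᵥ (mat (plusForm (k + 1 + 1) F) x⁻¹ *ᵥ v) = v := fun x v => by
    have := mulVec_inv_cancel (plusForm (k + 1 + 1) F) x⁻¹ v
    rwa [inv_inv] at this
  let act : OmP F (k + 1 + 1) → PPair F k → PPair F k := fun h p =>
    ⟨(mat (plusForm (k + 1 + 1) F) h.1 *ᵥ p.1.1, mat (plusForm (k + 1 + 1) F) h.1 *ᵥ p.1.2),
      ((mem_iff _).mp h.1.2 _).trans p.2.1, ((mem_iff _).mp h.1.2 _).trans p.2.2.1,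
      (polar_act _ h.1 _ _).trans p.2.2.2.1,
      fun e => p.2.2.2.2.1 (by
        rw [← mulVec_inv_cancel (plusForm (k + 1 + 1) F) h.1 p.1.1]; exact (congrArg _ e).trans (mulVec_zero _)),
      fun hm => p.2.2.2.2.2 (by
        obtain ⟨c, hc⟩ := Submodule.mem_span_singleton.mp hm
        refine Submodule.mem_span_singleton.mpr ⟨c, ?_⟩
        have h1 := congrArg (fun v => mat (plusForm (k + 1 + 1) F) h.1⁻¹ *ᵥ v) hc
        simpa only [mulVec_smul, mulVec_inv_cancel] using h1)⟩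
  have hact : ∀ h p, piP hn (act h p) = h * piP hn p * h⁻¹ := fun h p => (sgG_conj hn h rfl rfl).symm
  have hstd : act g stdPair = p₀ := Subtype.ext (Prod.ext hu hz)
  let E : PPair F k ≃ PPair F k :=
    { toFun := act g
      invFun := act g⁻¹
      left_inv := fun p => Subtype.ext (Prod.ext (mulVec_inv_cancel _ g.1 _) (mulVec_inv_cancel _ g.1 _))
      right_inv := fun p => Subtype.ext (Prod.ext (hinv g.1 _) (hinv g.1 _)) }
  refine (Nat.card_congr (E.subtypeEquiv fun p => ?_)).symm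
  show _ ↔ piP hn (act g p) = piP hn p₀
  rw [← hstd, hact, hact]
  exact ⟨fun h => by rw [h], fun h => mul_left_cancel (mul_right_cancel h)⟩

theorem card_class_eq (hk : 2 ≤ k) :
    Fintype.card F * (Fintype.card F ^ 2 - 1) * Nat.card {x : OmP F (k + 1 + 1) // IsConj (piP hn stdPair) x} =
      Nat.card (PPair F k) := by
  classical
  let π : PPair F k → {x : OmP F (k + 1 + 1) // IsConj (piP hn stdPair) x} := fun p => ⟨_, isConj_piP hn hk p⟩
  haveI := Fintype.ofFinite {x : OmP F (k + 1 + 1) // IsConj (piP hn stdPair) x}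
  have hinv : ∀ (h : OmP F (k + 1 + 1)) v, mat (plusForm (k + 1 + 1) F) h.1 *ᵥ v = 0 → v = 0 := fun h v e => by
    rw [← mulVec_inv_cancel (plusForm (k + 1 + 1) F) h.1 v, e, mulVec_zero]
  have hsurj : ∀ x : {x : OmP F (k + 1 + 1) // IsConj (piP hn stdPair) x}, ∃ p, π p = x := by
    rintro ⟨x, hx⟩
    obtain ⟨h, rfl⟩ := isConj_iff.mp hx
    refine ⟨⟨(mat (plusForm (k + 1 + 1) F) h.1 *ᵥ pu F k, mat (plusForm (k + 1 + 1) F) h.1 *ᵥ pz F k),
      ((mem_iff _).mp h.1.2 _).trans (plus_inL _), ((mem_iff _).mp h.1.2 _).trans (plus_inL _),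
      (polar_act _ h.1 _ _).trans (polar_inL_inL _ _), fun e => pu_ne (hinv h _ e), fun hm => pz_notin (F := F) (k := k) ?_⟩,
      Subtype.ext (sgG_conj hn h rfl rfl).symm⟩
    obtain ⟨c, hc⟩ := Submodule.mem_span_singleton.mp hm
    refine Submodule.mem_span_singleton.mpr ⟨c, ?_⟩
    have h1 := congrArg (fun v => mat (plusForm (k + 1 + 1) F) h.1⁻¹ *ᵥ v) hc
    simpa only [mulVec_smul, mulVec_inv_cancel] using h1
  rw [Nat.card_congr (Equiv.sigmaFiberEquiv π).symm, Nat.card_sigma, Finset.sum_congr rfl fun x _ => ?_,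
    Finset.sum_const, Finset.card_univ, ← Nat.card_eq_fintype_card (α := {x : OmP F (k + 1 + 1) // _}), smul_eq_mul, mul_comm]
  obtain ⟨p₀, rfl⟩ := hsurj x
  rw [← card_fibre_any hn hk p₀]
  exact Nat.card_congr (Equiv.subtypeEquivRight fun p => Subtype.ext_iff)

theorem card_sing (j : ℕ) :
    Nat.card {v : Fin (j + 1) ⊕ Fin (j + 1) → F // Cfsg.quadFormPlus (j + 1) F v = 0 ∧ v ≠ 0} =
      (Fintype.card F ^ (j + 1) - 1) * (Fintype.card F ^ j + 1) := by
  classical
  have h0 : Cfsg.quadFormPlus (j + 1) F 0 = 0 := by simp [Cfsg.quadFormPlus]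
  have h : Nat.card {v : Fin (j + 1) ⊕ Fin (j + 1) → F // Cfsg.quadFormPlus (j + 1) F v = 0 ∧ v ≠ 0} + 1 =
      Nat.card {v : Fin (j + 1) ⊕ Fin (j + 1) → F // Cfsg.quadFormPlus (j + 1) F v = 0} := by
    have := Set.ncard_sdiff_singleton_add_one
      (s := {v : Fin (j + 1) ⊕ Fin (j + 1) → F | Cfsg.quadFormPlus (j + 1) F v = 0}) (a := 0) h0 (Set.toFinite _)
    exact this
  rw [Cfsg.Lib.Classical.OrthCard.count_plus (j + 1) (by omega), Nat.card_eq_fintype_card (α := F),
    show 2 * (j + 1) - 1 = j + 1 + j by omega, Nat.add_sub_cancel, pow_add] at h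
  obtain ⟨y, hy⟩ : ∃ y, Fintype.card F ^ j = y + 1 :=
    ⟨_, (Nat.sub_add_cancel (Nat.one_le_pow _ _ Fintype.card_pos)).symm⟩
  have hq := Fintype.one_lt_card (α := F)
  obtain ⟨p, hp⟩ : ∃ p, Fintype.card F = p + 2 := ⟨Fintype.card F - 2, by omega⟩
  rw [pow_succ, hy, hp] at h ⊢
  rw [show (y + 1) * (p + 2) * (y + 1) + (y + 1) * (p + 2) - (y + 1) =
    (y + 1) * (p + 2) * (y + 1) + (y + 1) * (p + 1) from by
      rw [Nat.sub_eq_iff_eq_add (le_add_left (Nat.le_mul_of_pos_right _ (by omega : 0 < p + 2)))]; ring] at h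
  rw [show (y + 1) * (p + 2) - 1 = y * (p + 2) + (p + 1) from by
      rw [Nat.sub_eq_iff_eq_add (Nat.one_le_iff_ne_zero.mpr (by simp))]; ring]
  nlinarith [h]

theorem card_PPair (hk : 2 ≤ k) : Nat.card (PPair F k) =
    (Fintype.card F ^ (k + 1 + 1) - 1) * (Fintype.card F ^ (k + 1) + 1) *
      (Fintype.card F * ((Fintype.card F ^ (k + 1) - 1) * (Fintype.card F ^ k + 1))) := by
  classical
  set Q := plusForm (k + 1 + 1) F
  let U := {u : Fin (k + 1 + 1) ⊕ Fin (k + 1 + 1) → F // Q u = 0 ∧ u ≠ 0}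
  let Z := fun u : Fin (k + 1 + 1) ⊕ Fin (k + 1 + 1) → F =>
    {z // Q z = 0 ∧ QuadraticMap.polar (⇑Q) u z = 0 ∧ z ∉ Submodule.span F {u}}
  have e : PPair F k ≃ Σ u : U, Z u.1 :=
    { toFun := fun p => ⟨⟨p.1.1, p.2.1, p.2.2.2.2.1⟩, ⟨p.1.2, p.2.2.1, p.2.2.2.1, p.2.2.2.2.2⟩⟩
      invFun := fun x => ⟨(x.1.1, x.2.1), x.1.2.1, x.2.2.1, x.2.2.2.1, x.1.2.2, x.2.2.2.2⟩
      left_inv := fun p => rfl
      right_inv := fun x => rfl }
  have hU : Nat.card U = (Fintype.card F ^ (k + 1 + 1) - 1) * (Fintype.card F ^ (k + 1) + 1) := by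
    rw [← card_sing]
    exact Nat.card_congr (Equiv.subtypeEquivRight fun u => by rw [plusForm_apply])
  set u₀ : Fin (k + 1 + 1) ⊕ Fin (k + 1 + 1) → F := inL (Pi.single 0 1) with hu₀
  have hmove : ∀ u : U, Nat.card (Z u.1) = Nat.card (Z u₀) := by
    intro u
    obtain ⟨e₁, he₁, -, hm₁⟩ := WittQuad.exists_move_fix Q (plusForm_nondegenerate (k + 1 + 1)) ⊥ (a := u₀) (b := u.1)
      (by rw [Submodule.mem_bot]; exact fun e => one_ne_zero (α := F) (by simpa [hu₀, inL] using congrFun e (Sum.inl 0)))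
      (by rw [Submodule.mem_bot]; exact u.2.2) (by rw [plus_inL, u.2.1])
      (fun w hw => by rw [(Submodule.mem_bot F).mp hw]; simp)
    refine (Nat.card_congr (e₁.toEquiv.subtypeEquiv fun z => ?_)).symm
    have hp : QuadraticMap.polar (⇑Q) u.1 (e₁ z) = QuadraticMap.polar (⇑Q) u₀ z := by
      rw [← hm₁]; simp only [QuadraticMap.polar, ← map_add, he₁]
    show _ ↔ Q (e₁ z) = 0 ∧ QuadraticMap.polar (⇑Q) u.1 (e₁ z) = 0 ∧ e₁ z ∉ Submodule.span F {u.1}
    rw [he₁, hp]
    refine and_congr Iff.rfl (and_congr Iff.rfl (not_congr ?_))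
    rw [← hm₁, Submodule.mem_span_singleton, Submodule.mem_span_singleton]
    simp only [← map_smul, e₁.injective.eq_iff]
  have hZ : Nat.card (Z u₀) = Fintype.card F * ((Fintype.card F ^ (k + 1) - 1) * (Fintype.card F ^ k + 1)) := by
    rw [← card_sing, ← Nat.card_eq_fintype_card (α := F), ← Nat.card_prod]
    have hz : ∀ z, Q z = z (Sum.inl 0) * z (Sum.inr 0) + Cfsg.quadFormPlus (k + 1) F
        (Sum.elim (fun i : Fin (k + 1) => z (Sum.inl i.succ)) (fun i : Fin (k + 1) => z (Sum.inr i.succ))) := fun z => by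
      rw [plusForm_apply]; simp [Cfsg.quadFormPlus, Fin.sum_univ_succ]
    have hB : ∀ z, QuadraticMap.polar (⇑Q) u₀ z = z (Sum.inr 0) := fun z => by
      rw [polar_inL_left, single_dotProduct, one_mul]; rfl
    have hs : ∀ z : Fin (k + 1 + 1) ⊕ Fin (k + 1 + 1) → F, z (Sum.inr 0) = 0 → (z ∈ Submodule.span F {u₀} ↔
        Sum.elim (fun i : Fin (k + 1) => z (Sum.inl i.succ)) (fun i : Fin (k + 1) => z (Sum.inr i.succ)) = 0) := fun z h0 => by
      rw [Submodule.mem_span_singleton]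
      refine ⟨?_, fun h => ⟨z (Sum.inl 0), funext fun i => ?_⟩⟩
      · rintro ⟨c, rfl⟩
        funext i; rcases i with i | i <;> simp [hu₀, inL]
      · rcases i with i | i <;> cases i using Fin.cases with
        | zero => simp [hu₀, inL, h0]
        | succ i =>
          first
          | simpa [hu₀, inL] using (congrFun h (Sum.inl i)).symm
          | simpa [hu₀, inL] using (congrFun h (Sum.inr i)).symm
    let eZ : Z u₀ ≃ F × {v : Fin (k + 1) ⊕ Fin (k + 1) → F // Cfsg.quadFormPlus (k + 1) F v = 0 ∧ v ≠ 0} :=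
      { toFun := fun z => (z.1 (Sum.inl 0),
          ⟨Sum.elim (fun i : Fin (k + 1) => z.1 (Sum.inl i.succ)) (fun i : Fin (k + 1) => z.1 (Sum.inr i.succ)), by
            have h0 := (hB z.1).symm.trans z.2.2.1
            refine ⟨?_, fun h => z.2.2.2 ((hs _ h0).mpr h)⟩
            have := z.2.1
            rwa [hz, h0, mul_zero, zero_add] at this⟩)
        invFun := fun x => ⟨Sum.elim (Fin.cons x.1 fun i => x.2.1 (Sum.inl i)) (Fin.cons 0 fun i => x.2.1 (Sum.inr i)), by
            have e : (Sum.elim (fun i : Fin (k + 1) => x.2.1 (Sum.inl i)) fun i => x.2.1 (Sum.inr i)) = x.2.1 :=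
              Sum.elim_comp_inl_inr x.2.1
            refine ⟨?_, ?_, fun h => x.2.2.2 ?_⟩
            · rw [hz]; simp [e, x.2.2.1]
            · rw [hB]; simp
            · have := (hs _ (by simp)).mp h
              simpa [e] using this⟩
        left_inv := fun z => Subtype.ext (funext fun i => by
          rcases i with i | i <;> cases i using Fin.cases with
          | zero => first | rfl | exact ((hB z.1).symm.trans z.2.2.1).symm
          | succ i => rfl)
        right_inv := fun x => Prod.ext rfl (Subtype.ext (by funext i; rcases i with i | i <;> simp)) }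
    exact Nat.card_congr eZ
  haveI := Fintype.ofFinite U
  rw [Nat.card_congr e, Nat.card_sigma, Finset.sum_congr rfl fun u _ => (hmove u).trans hZ, Finset.sum_const,
    Finset.card_univ, ← Nat.card_eq_fintype_card (α := U), hU, smul_eq_mul]

end Cfsg.Lib.OrthMinDeg
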