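import Cfsg.Agent.Known.OrthMinDegree.Alt
import Cfsg.Agent.Known.OrthTwoGen.Elements

/-! Elements of `Ω⁺` attached to the stabiliser of a maximal singular subspace and its opposite. -/

set_option autoImplicit false
set_option linter.unusedSectionVars false
set_option linter.style.haveILetI false

open Matrix Cfsg.Lib.Classical Cfsg.Lib.Classical.Refl Cfsg.Lib.Classical.HypQuad Cfsg.Lib.SLMinDeg

namespace Cfsg.Lib.OrthMinDeg

variable {F : Type*} [Field F] {n : ℕ}

/-- A vector of the first half. -/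
def inL (a : Fin n → F) : Fin n ⊕ Fin n → F := Sum.elim a 0

/-- A vector of the second half. -/
def inR (a : Fin n → F) : Fin n ⊕ Fin n → F := Sum.elim 0 a

theorem plus_dot (v : Fin n ⊕ Fin n → F) : plusForm n F v = (v ∘ Sum.inl) ⬝ᵥ (v ∘ Sum.inr) := by
  rw [plusForm_apply]; rfl

theorem polar_dot (u v : Fin n ⊕ Fin n → F) :
    QuadraticMap.polar (⇑(plusForm n F)) u v =
      (u ∘ Sum.inl) ⬝ᵥ (v ∘ Sum.inr) + (v ∘ Sum.inl) ⬝ᵥ (u ∘ Sum.inr) := by
  simp only [QuadraticMap.polar, plus_dot]
  rw [show (u + v) ∘ Sum.inl = u ∘ Sum.inl + v ∘ Sum.inl from rfl,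
    show (u + v) ∘ Sum.inr = u ∘ Sum.inr + v ∘ Sum.inr from rfl]
  simp only [add_dotProduct, dotProduct_add]
  ring

theorem polar_inL_left (a : Fin n → F) (v : Fin n ⊕ Fin n → F) :
    QuadraticMap.polar (⇑(plusForm n F)) (inL a) v = a ⬝ᵥ (v ∘ Sum.inr) := by
  rw [polar_dot]; simp [inL]

theorem polar_inR_left (a : Fin n → F) (v : Fin n ⊕ Fin n → F) :
    QuadraticMap.polar (⇑(plusForm n F)) (inR a) v = a ⬝ᵥ (v ∘ Sum.inl) := by
  rw [polar_dot]; simp [inR, dotProduct_comm]

theorem plus_inL (a : Fin n → F) : plusForm n F (inL a) = 0 := by rw [plus_dot]; simp [inL]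

theorem plus_inR (a : Fin n → F) : plusForm n F (inR a) = 0 := by rw [plus_dot]; simp [inR]

set_option quotPrecheck false in
local notation "Iso" => Cfsg.isometryGroup F (⇑(plusForm n F))

/-- A matrix with an inverse preserving the form. -/
def mkI (M N : Matrix (Fin n ⊕ Fin n) (Fin n ⊕ Fin n) F) (h : M * N = 1) (h' : N * M = 1)
    (hq : ∀ v, plusForm n F (M *ᵥ v) = plusForm n F v) : Iso :=
  ⟨⟨M, N, h, h'⟩, (mem_iff _).mpr hq⟩

theorem mat_mkI (M N : Matrix (Fin n ⊕ Fin n) (Fin n ⊕ Fin n) F) (h : M * N = 1) (h' : N * M = 1)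
    (hq : ∀ v, plusForm n F (M *ᵥ v) = plusForm n F v) :
    mat (plusForm n F) (mkI M N h h' hq) = M := rfl

theorem mat_ext {g h : Iso} (e : mat (plusForm n F) g = mat (plusForm n F) h) : g = h :=
  ext_mulVec _ fun x => by rw [e]

theorem mat_mul' (g h : Iso) : mat (plusForm n F) (g * h) = mat (plusForm n F) g * mat (plusForm n F) h := rfl

/-- The upper unipotent element. -/
def xI (A : AltM F n) : Iso :=
  mkI (fromBlocks 1 (A : Matrix (Fin n) (Fin n) F) 0 1) (fromBlocks 1 (-(A : Matrix (Fin n) (Fin n) F)) 0 1)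
    (by simp [fromBlocks_multiply]) (by simp [fromBlocks_multiply]) fun v => by
      rw [fromBlocks_mulVec, plus_dot, plus_dot, Sum.elim_comp_inl, Sum.elim_comp_inr, one_mulVec, zero_mulVec,
        zero_add, one_mulVec, add_dotProduct, dotProduct_comm (_ *ᵥ _), dot_mulVec_self A.2, add_zero]

/-- The lower unipotent element. -/
def yI (A : AltM F n) : Iso :=
  mkI (fromBlocks 1 0 (A : Matrix (Fin n) (Fin n) F) 1) (fromBlocks 1 0 (-(A : Matrix (Fin n) (Fin n) F)) 1)
    (by simp [fromBlocks_multiply]) (by simp [fromBlocks_multiply]) fun v => by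
      rw [fromBlocks_mulVec, plus_dot, plus_dot, Sum.elim_comp_inl, Sum.elim_comp_inr, one_mulVec, zero_mulVec,
        add_zero, one_mulVec, dotProduct_add, dot_mulVec_self A.2, zero_add]

theorem xI_add (A B : AltM F n) : xI (A + B) = xI A * xI B :=
  mat_ext (by simp [xI, mat_mul', mat_mkI, fromBlocks_multiply, add_comm])

theorem yI_add (A B : AltM F n) : yI (A + B) = yI A * yI B :=
  mat_ext (by simp [yI, mat_mul', mat_mkI, fromBlocks_multiply, add_comm])

theorem det_ne (g : GL (Fin n) F) : ((g⁻¹ : GL (Fin n) F) : Matrix (Fin n) (Fin n) F) *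
    (g : Matrix (Fin n) (Fin n) F) = 1 := by rw [← Units.val_mul, inv_mul_cancel, Units.val_one]

theorem det_ne' (g : GL (Fin n) F) : (g : Matrix (Fin n) (Fin n) F) *
    ((g⁻¹ : GL (Fin n) F) : Matrix (Fin n) (Fin n) F) = 1 := by rw [← Units.val_mul, mul_inv_cancel, Units.val_one]

/-- The Levi element. -/
def lvI : GL (Fin n) F →* Iso where
  toFun g := mkI (fromBlocks (g : Matrix (Fin n) (Fin n) F) 0 0 ((g⁻¹ : GL (Fin n) F) : Matrix (Fin n) (Fin n) F)ᵀ)
    (fromBlocks ((g⁻¹ : GL (Fin n) F) : Matrix (Fin n) (Fin n) F) 0 0 (g : Matrix (Fin n) (Fin n) F)ᵀ)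
    (by simp [fromBlocks_multiply, ← transpose_mul])
    (by simp [fromBlocks_multiply, ← transpose_mul])
    (fun v => by
      rw [fromBlocks_mulVec, plus_dot, plus_dot, Sum.elim_comp_inl, Sum.elim_comp_inr, zero_mulVec, zero_mulVec,
        add_zero, zero_add, mulVec_transpose, dotProduct_comm, ← dotProduct_mulVec, mulVec_mulVec, det_ne,
        one_mulVec, dotProduct_comm])
  map_one' := mat_ext (by simp [mat_mkI, fromBlocks_one]; rfl)
  map_mul' g h := mat_ext (by simp [mat_mul', mat_mkI, fromBlocks_multiply, transpose_mul])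

theorem mat_xI (A : AltM F n) : mat (plusForm n F) (xI A) = fromBlocks 1 (A : Matrix (Fin n) (Fin n) F) 0 1 := rfl

theorem mat_yI (A : AltM F n) : mat (plusForm n F) (yI A) = fromBlocks 1 0 (A : Matrix (Fin n) (Fin n) F) 1 := rfl

theorem mat_lvI (g : GL (Fin n) F) : mat (plusForm n F) (lvI g) =
    fromBlocks (g : Matrix (Fin n) (Fin n) F) 0 0 ((g⁻¹ : GL (Fin n) F) : Matrix (Fin n) (Fin n) F)ᵀ := rfl

theorem lvI_conj_x (g : GL (Fin n) F) (A : AltM F n) :
    lvI g * xI A * (lvI g)⁻¹ = xI (cg (g : Matrix (Fin n) (Fin n) F) A) := by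
  rw [← map_inv]
  refine mat_ext ?_
  simp [mat_mul', mat_xI, mat_lvI, fromBlocks_multiply, coe_cg, -map_inv, Matrix.mul_assoc, ← transpose_mul, Units.mul_inv, Units.inv_mul]

theorem lvI_conj_y (g : GL (Fin n) F) (A : AltM F n) :
    lvI g * yI A * (lvI g)⁻¹ = yI (cg ((g⁻¹ : GL (Fin n) F) : Matrix (Fin n) (Fin n) F)ᵀ A) := by
  rw [← map_inv]
  refine mat_ext ?_
  simp [mat_mul', mat_yI, mat_lvI, fromBlocks_multiply, coe_cg, -map_inv, Matrix.mul_assoc, ← transpose_mul, Units.mul_inv, Units.inv_mul]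

theorem polar_inL_inL (a b : Fin n → F) : QuadraticMap.polar (⇑(plusForm n F)) (inL a) (inL b) = 0 := by
  rw [polar_inL_left]; simp [inL]

theorem polar_inR_inR (a b : Fin n → F) : QuadraticMap.polar (⇑(plusForm n F)) (inR a) (inR b) = 0 := by
  rw [polar_inR_left]; simp [inR]

theorem polar_inL_inR (a b : Fin n → F) : QuadraticMap.polar (⇑(plusForm n F)) (inL a) (inR b) = a ⬝ᵥ b := by
  rw [polar_inL_left]; simp [inR]

theorem siegelG_congr {ι : Type} [Fintype ι] [DecidableEq ι] {Q : QuadraticForm F (ι → F)} {u u' z z' : ι → F}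
    (hu : Q u = 0) (huz : QuadraticMap.polar (⇑Q) u z = 0) (hu' : Q u' = 0)
    (huz' : QuadraticMap.polar (⇑Q) u' z' = 0) (eu : u = u') (ez : z = z') :
    siegelG Q hu huz = siegelG Q hu' huz' := by subst eu ez; rfl

theorem xI_wd (a b : Fin n → F) :
    xI (wd a b) = siegelG (plusForm n F) (plus_inL b) (polar_inL_inL b a) := by
  refine ext_mulVec _ fun v => ?_
  rw [mat_siegelG, mat_xI, coe_wd, fromBlocks_mulVec, siegelMap, polar_inL_left, polar_inL_left, plus_inL]
  funext i
  rcases i with i | i <;> simp [inL, wedge_mulVec]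
  ring

theorem yI_wd (a b : Fin n → F) :
    yI (wd a b) = siegelG (plusForm n F) (plus_inR b) (polar_inR_inR b a) := by
  refine ext_mulVec _ fun v => ?_
  rw [mat_siegelG, mat_yI, coe_wd, fromBlocks_mulVec, siegelMap, polar_inR_left, polar_inR_left, plus_inR]
  funext i
  rcases i with i | i <;> simp [inR, wedge_mulVec]
  ring

theorem neg_single_dot {i j : Fin n} (hij : i ≠ j) (c : F) :
    QuadraticMap.polar (⇑(plusForm n F)) (inL (Pi.single i (-c))) (inR (Pi.single j 1)) = 0 := by
  rw [polar_inL_inR, single_dotProduct, Pi.single_eq_of_ne hij, mul_zero]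

theorem lvI_transvection {i j : Fin n} (hij : i ≠ j) (c : F) :
    lvI (Matrix.SpecialLinearGroup.toGL (Matrix.SpecialLinearGroup.transvection hij c)) =
      siegelG (plusForm n F) (plus_inL (Pi.single i (-c))) (neg_single_dot hij c) := by
  have e : ((Matrix.SpecialLinearGroup.toGL (Matrix.SpecialLinearGroup.transvection hij c))⁻¹ : GL (Fin n) F) =
      Matrix.SpecialLinearGroup.toGL (Matrix.SpecialLinearGroup.transvection hij (-c)) := by
    rw [← map_inv, Matrix.SpecialLinearGroup.transvection_inv]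
  refine ext_mulVec _ fun v => ?_
  rw [mat_siegelG, mat_lvI, e, fromBlocks_mulVec, siegelMap, polar_inL_left, polar_inR_left, plus_inR]
  funext x
  rcases x with x | x
  · rw [Sum.elim_inl, Pi.add_apply, zero_mulVec, Pi.zero_apply, add_zero,
      show ((Matrix.SpecialLinearGroup.toGL (Matrix.SpecialLinearGroup.transvection hij c) : GL (Fin n) F) :
        Matrix (Fin n) (Fin n) F) = (Matrix.SpecialLinearGroup.transvection hij c : Matrix (Fin n) (Fin n) F) from rfl,
      mulVec_transvection, Pi.add_apply]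
    by_cases hx : x = i
    · subst hx; simp [inL, inR]; ring
    · simp [inL, inR, hx]
  · rw [Sum.elim_inr, Pi.add_apply, zero_mulVec, Pi.zero_apply, zero_add,
      show ((Matrix.SpecialLinearGroup.toGL (Matrix.SpecialLinearGroup.transvection hij (-c)) : GL (Fin n) F) :
        Matrix (Fin n) (Fin n) F) = (Matrix.SpecialLinearGroup.transvection hij (-c) : Matrix (Fin n) (Fin n) F) from rfl,
      mulVec_transpose, vecMul_transvection, Pi.add_apply]
    by_cases hx : x = j
    · subst hx; simp [inL, inR]; ring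
    · simp [inL, inR, hx]

/-! ### In `Ω` -/

variable [Fintype F] (hn : 3 ≤ n)

include hn

theorem card_idx : 5 ≤ Fintype.card (Fin n ⊕ Fin n) := by simp only [Fintype.card_sum, Fintype.card_fin]; omega

theorem siegel_mem {u z : Fin n ⊕ Fin n → F} (hu : plusForm n F u = 0)
    (huz : QuadraticMap.polar (⇑(plusForm n F)) u z = 0) :
    siegelG (plusForm n F) hu huz ∈ Cfsg.Omega F (⇑(plusForm n F)) :=
  siegelG_mem_omega _ (plusForm_nondegenerate n) (card_idx hn) hu huz

theorem xI_mem (A : AltM F n) : xI A ∈ Cfsg.Omega F (⇑(plusForm n F)) := by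
  induction A using alt_induction with
  | h0 =>
    have h : (xI (0 : AltM F n)) = 1 := by
      have h' := xI_add (0 : AltM F n) 0
      rw [add_zero] at h'
      exact left_eq_mul.mp h'
    rw [h]; exact one_mem _
  | hadd A B hA hB => rw [xI_add]; exact mul_mem hA hB
  | hgen i j c _ => rw [xI_wd]; exact siegel_mem hn _ _

theorem yI_mem (A : AltM F n) : yI A ∈ Cfsg.Omega F (⇑(plusForm n F)) := by
  induction A using alt_induction with
  | h0 =>
    have h : (yI (0 : AltM F n)) = 1 := by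
      have h' := yI_add (0 : AltM F n) 0
      rw [add_zero] at h'
      exact left_eq_mul.mp h'
    rw [h]; exact one_mem _
  | hadd A B hA hB => rw [yI_add]; exact mul_mem hA hB
  | hgen i j c _ => rw [yI_wd]; exact siegel_mem hn _ _

theorem lvI_mem (g : Matrix.SpecialLinearGroup (Fin n) F) :
    lvI (Matrix.SpecialLinearGroup.toGL g) ∈ Cfsg.Omega F (⇑(plusForm n F)) := by
  have h : ((Cfsg.Omega F (⇑(plusForm n F))).comap lvI).comap Matrix.SpecialLinearGroup.toGL = ⊤ :=
    Cfsg.Lib.Classical.eq_top_of_transvection_mem _ fun i j hij c => by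
      rw [Subgroup.mem_comap, Subgroup.mem_comap, lvI_transvection]; exact siegel_mem hn _ _
  exact (h ▸ Subgroup.mem_top g :
    g ∈ ((Cfsg.Omega F (⇑(plusForm n F))).comap lvI).comap Matrix.SpecialLinearGroup.toGL)

theorem exists_dil_lv (j : Fin n) {μ : F} (hμ : μ ≠ 0) :
    ∃ g ∈ (Cfsg.Omega F (⇑(plusForm n F))).comap lvI,
      (g : Matrix (Fin n) (Fin n) F) = diagonal (Function.update 1 j (μ * μ)) := by
  have hs : μ * μ ≠ 0 := mul_ne_zero hμ hμ
  let g : GL (Fin n) F := ⟨diagonal (Function.update 1 j (μ * μ)), diagonal (Function.update 1 j (μ * μ)⁻¹),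
    by rw [diagonal_mul_diagonal, ← diagonal_one]; congr 1; funext i
       by_cases hi : i = j <;> simp [hi] <;> field_simp,
    by rw [diagonal_mul_diagonal, ← diagonal_one]; congr 1; funext i
       by_cases hi : i = j <;> simp [hi] <;> field_simp⟩
  refine ⟨g, ?_, rfl⟩
  have hab : QuadraticMap.polar (⇑(plusForm n F)) (inL (Pi.single j 1)) (inR (Pi.single j 1)) = 1 := by
    rw [polar_inL_inR, single_dotProduct, Pi.single_eq_same, mul_one]
  obtain ⟨t, ht, ht1, ht2, ht3⟩ := OrthTwoGen.exists_dil (plusForm_nondegenerate n) (plus_inL _) (plus_inR _) hab hμ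
  rw [Subgroup.mem_comap]
  have : lvI g = t := by
    refine ext_mulVec _ fun v => ?_
    set w := v - v (Sum.inl j) • inL (Pi.single j 1) - v (Sum.inr j) • inR (Pi.single j 1) with hw
    have hwl : w (Sum.inl j) = 0 := by simp [hw, inL, inR]
    have hwr : w (Sum.inr j) = 0 := by simp [hw, inL, inR]
    have e : v = w + v (Sum.inl j) • inL (Pi.single j 1) + v (Sum.inr j) • inR (Pi.single j 1) := by rw [hw]; abel
    have h3 := ht3 w (by rw [polar_inL_left, single_dotProduct, one_mul]; exact hwr)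
      (by rw [polar_inR_left, single_dotProduct, one_mul]; exact hwl)
    rw [e]
    simp only [mulVec_add, mulVec_smul, ht1, ht2, h3, mat_lvI, fromBlocks_mulVec]
    funext i
    rcases i with i | i <;> by_cases hi : i = j
    · subst hi; simp [g, inL, inR, mulVec_diagonal, hwl]
    · simp [g, inL, inR, mulVec_diagonal, hi]
    · subst hi; simp [g, inL, inR, mulVec_diagonal, hwr, diagonal_transpose]
    · simp [g, inL, inR, mulVec_diagonal, hi, diagonal_transpose]
  rw [this]; exact ht

end Cfsg.Lib.OrthMinDeg
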