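import Cfsg.Agent.Known.OrthMinDegree.Shape
import Cfsg.Agent.Known.SLMinDegree.Bound
import Cfsg.Agent.Classical.SL

/-! The space fixed by the unipotent radical in a small representation. -/

set_option autoImplicit false
set_option linter.unusedSectionVars false
set_option linter.style.haveILetI false

open Matrix Cfsg.Lib.Classical Cfsg.Lib.Classical.Refl Cfsg.Lib.Classical.HypQuad Cfsg.Lib.SLMinDeg
open scoped commutatorElement

namespace Cfsg.Lib.OrthMinDeg

universe u v

variable {F : Type u} [Field F] [Fintype F] {k : ℕ}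

theorem sig_sig (g : OmP F (k + 1 + 1)) : sig (sig g) = g := by
  have h2 : (swp : Cfsg.isometryGroup F (⇑(plusForm (k + 1 + 1) F))) * swp = 1 := ext_mulVec _ fun x => by
    show mat _ (swp * swp) *ᵥ x = mat _ 1 *ᵥ x
    rw [mat_mul', ← mulVec_mulVec, mat_swp, mat_swp, show mat (plusForm (k + 1 + 1) F) 1 = 1 from rfl, one_mulVec]
    funext i
    simp
  refine Subtype.ext ?_
  show swp * (swp * g.1 * swp⁻¹) * swp⁻¹ = g.1
  rw [show swp * (swp * g.1 * swp⁻¹) * swp⁻¹ = (swp * swp) * g.1 * (swp * swp)⁻¹ by group, h2]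
  group

variable {M : Type v} [AddCommGroup M] [Module ℂ M] [FiniteDimensional ℂ M] (hn : 3 ≤ k + 1 + 1)
  (ρ : OmP F (k + 1 + 1) →* Module.End ℂ M)

/-- The representation twisted by the exchange of a pair. -/
noncomputable def twist : OmP F (k + 1 + 1) →* Module.End ℂ M := ρ.comp sig.toMonoidHom

theorem twist_apply (g : OmP F (k + 1 + 1)) : twist ρ g = ρ (sig g) := rfl

theorem twist_irr (hirr : IsIrr ρ) : IsIrr (twist ρ) := fun U hU => hirr U fun g x hx => by
  have := hU (sig g) x hx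
  rwa [twist_apply, sig_sig] at this

/-- A vector fixed by the generators of the twisted radical. -/
theorem mem_twist_zero {x : M}
    (hoff : ∀ (i j : Fin (k + 1 + 1)) (c : F), i ≠ 0 → j ≠ 0 →
      ρ (xG hn (wd (Pi.single i c) (Pi.single j 1))) x = x)
    (hlow : ∀ (j : Fin (k + 1 + 1)) (hj : j ≠ 0) (c : F),
      ρ (lvG hn (Matrix.SpecialLinearGroup.transvection hj c)) x = x) :
    x ∈ Eg hn (twist ρ) 0 := by
  rw [mem_Eg_zero]
  intro A
  rw [twist_apply]
  induction A using alt_induction with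
  | h0 =>
    have h := xG_add hn (0 : AltM F (k + 1 + 1)) 0
    rw [add_zero] at h
    rw [left_eq_mul.mp h, map_one, map_one]; rfl
  | hadd A B hA hB => rw [xG_add, map_mul, map_mul, Module.End.mul_apply, hB, hA]
  | hgen i j c hij =>
    by_cases hi : i = 0
    · subst hi
      rw [sig_xG_zero hn hij.symm c]; exact hlow j _ _
    by_cases hj : j = 0
    · subst hj
      rw [show wd (Pi.single i c : Fin (k + 1 + 1) → F) (Pi.single 0 1) = wd (Pi.single 0 (-c)) (Pi.single i 1) by
          rw [wd_swap (Pi.single i 1) (Pi.single 0 (-c)),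
            show (Pi.single i c : Fin (k + 1 + 1) → F) = c • Pi.single i 1 by rw [← Pi.single_smul, smul_eq_mul, mul_one],
            show (Pi.single 0 (-c) : Fin (k + 1 + 1) → F) = (-c) • Pi.single 0 1 by
              rw [← Pi.single_smul, smul_eq_mul, mul_one],
            wd_smul_left, wd_smul_right]
          module,
        sig_xG_zero hn hi (-c)]
      exact hlow i _ _
    · rw [sig_xG_off hn hi hj c]; exact hoff i j c hi hj

variable (hirr : IsIrr ρ) (hd : 2 ≤ Module.finrank ℂ M) (hk : 2 ≤ k) (hq : 3 < Fintype.card F)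
  (hs : (Fintype.card F ^ 2 - 1) * Module.finrank ℂ M < D0 F k)

include hirr hd hk hq hs

theorem ff_twist : ff hn (twist ρ) = ff hn ρ := by
  have h1 := (shape hn ρ hirr hd hk hq hs).1
  have h2 := (shape hn (twist ρ) (twist_irr ρ hirr) hd hk hq hs).1
  omega

theorem ff_ne_zero : ff hn ρ ≠ 0 := by
  classical
  intro hf
  set L : Module.Dual F (AltM F (k + 1 + 1)) := luv (Pi.single 0 1) (Pi.single 1 1) with hLdef
  have hL : Module.finrank ℂ (Eg hn ρ L) = 1 := (shape hn ρ hirr hd hk hq hs).2.1 L dec_first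
  have hpres : ∀ g : Matrix.SpecialLinearGroup (Fin (k + 1 + 1)) F,
      L.comp (cg (g : Matrix (Fin (k + 1 + 1)) (Fin (k + 1 + 1)) F)) = L →
      ∀ x ∈ Eg hn ρ L, ρ (lvG hn g) x ∈ Eg hn ρ L := fun g hg x hx => by
    have := map_Eg hn ρ (Matrix.SpecialLinearGroup.toGL g) (lvI_mem hn g) L (x := x) (by
      show x ∈ Eg hn ρ (L.comp (cg (g : Matrix (Fin (k + 1 + 1)) (Fin (k + 1 + 1)) F)))
      rwa [hg])
    exact this
  have h01 : (1 : Fin (k + 1 + 1)) ≠ 0 := by simp
  have htr : ∀ (i j : Fin (k + 1 + 1)) (hij : i ≠ j) (c : F), i ≠ 0 → (i = 1 → j = 0) →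
      L.comp (cg (Matrix.SpecialLinearGroup.transvection hij c : Matrix (Fin (k + 1 + 1)) (Fin (k + 1 + 1)) F)) = L := by
    intro i j hij c hi hi1
    rw [hLdef, luv_comp, vecMul_transvection, vecMul_transvection, Pi.single_eq_of_ne hi, zero_mul, Pi.single_zero,
      add_zero]
    by_cases h1 : i = 1
    · obtain rfl := hi1 h1
      subst h1
      rw [Pi.single_eq_same, one_mul, show (Pi.single 0 c : Fin (k + 1 + 1) → F) = c • Pi.single 0 1 by
        rw [← Pi.single_smul, smul_eq_mul, mul_one]]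
      have := luv_comb (Pi.single 0 (1 : F) : Fin (k + 1 + 1) → F) (Pi.single 1 1) 1 0 c 1
      simp only [one_smul, zero_smul, add_zero, mul_one, zero_mul, sub_zero] at this
      exact (congrArg (luv _) (add_comm _ _)).trans this
    · rw [Pi.single_eq_of_ne h1, zero_mul, Pi.single_zero, add_zero]
  obtain ⟨t, ht0, ht⟩ := exists_pow_ne_one (F := F) (k := 2) (fun h => by
    have := Nat.le_of_dvd (by norm_num) h; omega)
  have hle : Eg hn ρ L ≤ Eg hn (twist ρ) 0 := by
    intro x hx
    refine mem_twist_zero hn ρ (fun i j c hi hj => ?_) fun j hj c => ?_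
    · have h := (RepEigen.mem_eig ρ).mp hx (wd (Pi.single i c) (Pi.single j 1))
      rw [chi_apply, hLdef, ← bf_apply, bf_luv] at h
      simpa [hi, hj, Ne.symm hi, Ne.symm hj] using h
    · by_cases hj1 : j = 1
      · subst hj1
        let d : Fin (k + 1 + 1) → F := Fin.cons t (Fin.cons t⁻¹ 1)
        have hd' : ∏ i, d i = 1 := by simp [d, Fin.prod_univ_succ, ht0]
        have hdL : L.comp (cg (dia d hd' : Matrix (Fin (k + 1 + 1)) (Fin (k + 1 + 1)) F)) = L := by
          rw [hLdef, luv_comp, coe_dia]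
          have e0 : (Pi.single 0 1 : Fin (k + 1 + 1) → F) ᵥ* diagonal d = t • Pi.single 0 1 := by
            ext i; rw [vecMul_diagonal]
            by_cases hi : i = 0
            · subst hi; simp [d]
            · simp [hi]
          have e1 : (Pi.single 1 1 : Fin (k + 1 + 1) → F) ᵥ* diagonal d = t⁻¹ • Pi.single 1 1 := by
            ext i; rw [vecMul_diagonal]
            by_cases hi : i = 1
            · subst hi; simp [show d 1 = t⁻¹ from rfl]
            · simp [hi]
          rw [e0, e1]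
          have := luv_comb (Pi.single 0 (1 : F) : Fin (k + 1 + 1) → F) (Pi.single 1 1) t 0 0 t⁻¹
          simp only [zero_smul, add_zero, zero_add, zero_mul, sub_zero, mul_inv_cancel₀ ht0, one_smul] at this
          exact this
        have hne : t⁻¹ * t⁻¹ - 1 ≠ 0 := by
          rw [sub_ne_zero]; intro e
          apply ht
          have := congrArg (fun z : F => z * t ^ 2) e
          simp only [one_mul] at this
          rw [← this]; field_simp
        have := comm_fix ρ hL (g := lvG hn (dia d hd'))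
          (h := lvG hn (Matrix.SpecialLinearGroup.transvection hj (c / (t⁻¹ * t⁻¹ - 1))))
          (hpres _ hdL) (hpres _ (htr _ _ hj _ hj (fun _ => rfl))) hx
        rw [← map_commutatorElement, transvection_comm_dia, show d 1 * (d 0)⁻¹ - 1 = t⁻¹ * t⁻¹ - 1 from rfl,
          mul_div_cancel₀ _ hne] at this
        exact this
      · obtain ⟨l, hl0, hl1, hlj⟩ : ∃ l : Fin (k + 1 + 1), l ≠ 0 ∧ l ≠ 1 ∧ l ≠ j := by
          by_cases h2 : (j : ℕ) = 2
          · exact ⟨⟨3, by omega⟩, by simp [Fin.ext_iff], by simp [Fin.ext_iff], by simp [Fin.ext_iff, h2]⟩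
          · exact ⟨⟨2, by omega⟩, by simp [Fin.ext_iff], by simp [Fin.ext_iff], by simp [Fin.ext_iff]; omega⟩
        have := comm_fix ρ hL (g := lvG hn (Matrix.SpecialLinearGroup.transvection hlj.symm c))
          (h := lvG hn (Matrix.SpecialLinearGroup.transvection hl0 (1 : F)))
          (hpres _ (htr _ _ _ _ hj (fun h => absurd h hj1)))
          (hpres _ (htr _ _ _ _ hl0 (fun h => absurd h hl1))) hx
        rwa [← map_commutatorElement, Cfsg.Lib.Classical.transvection_commutator hlj.symm hl0 hj] at this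
  have := Submodule.finrank_mono hle
  have h2 := ff_twist hn ρ hirr hd hk hq hs
  rw [hL] at this
  change _ ≤ ff hn (twist ρ) at this
  omega

theorem moved : ∃ (g : Matrix.SpecialLinearGroup (Fin (k + 1 + 1)) F), ∃ x ∈ Eg hn ρ 0, ρ (lvG hn g) x ≠ x := by
  classical
  by_contra hc
  push Not at hc
  set W := Eg hn ρ 0 with hW
  set K := fixSub ρ (W : Set M)
  have hWeq : W = Eg hn (twist ρ) 0 := Submodule.eq_of_le_of_finrank_eq
    (fun x hx => mem_twist_zero hn ρ (fun i j c _ _ => (mem_Eg_zero hn ρ).mp hx _) fun j hj c => hc _ x hx)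
    (ff_twist hn ρ hirr hd hk hq hs).symm
  set j2 : Fin (k + 1 + 1) := ⟨2, by omega⟩ with hj2
  have h20 : j2 ≠ 0 := by simp [hj2, Fin.ext_iff]
  have h21 : j2 ≠ 1 := by simp [hj2, Fin.ext_iff]
  have hlv : ∀ g x, x ∈ Eg hn (twist ρ) 0 → twist ρ (lvG hn g) x ∈ Eg hn (twist ρ) 0 := fun g x hx =>
    map_Eg hn (twist ρ) (Matrix.SpecialLinearGroup.toGL g) (lvI_mem hn g) 0 (by rwa [LinearMap.zero_comp])
  set y₀ := yG hn (wd (Pi.single 0 (1 : F)) (Pi.single j2 1)) with hy0
  have hnorm : ∀ x ∈ W, ρ y₀ x ∈ W := fun x hx => by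
    rw [hWeq] at hx ⊢
    have := hlv (Matrix.SpecialLinearGroup.transvection h20.symm 1) x hx
    rwa [← sig_yG_zero hn h20, twist_apply, sig_sig] at this
  set t : Matrix.SpecialLinearGroup (Fin (k + 1 + 1)) F := Matrix.SpecialLinearGroup.transvection h21 1 with htdef
  have hy01 : yG hn (wd (Pi.single 0 (1 : F)) (Pi.single 1 1)) ∈ K := by
    have e : y₀⁻¹ * (lvG hn t * y₀ * (lvG hn t)⁻¹) = (yG hn (wd (Pi.single 0 (1 : F)) (Pi.single 1 1)))⁻¹ := by
      rw [eq_inv_iff_mul_eq_one, mul_assoc, inv_mul_eq_one, hy0, lvG_conj_y, cg_wd, mulVec_transpose,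
        mulVec_transpose, htdef, Matrix.SpecialLinearGroup.transvection_inv, vecMul_transvection, vecMul_transvection,
        Pi.single_eq_of_ne h20, Pi.single_eq_same, zero_mul, Pi.single_zero, add_zero, ← yG_add, ← wd_add_right,
        add_assoc (Pi.single j2 (1 : F) : Fin (k + 1 + 1) → F), one_mul, ← Pi.single_add, neg_add_cancel, Pi.single_zero, add_zero]
    refine inv_mem_iff.mp ?_
    rw [← e]
    intro x hx
    have h1 : ρ (lvG hn t)⁻¹ x = x := by rw [← map_inv]; exact hc _ x hx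
    rw [map_mul, map_mul, map_mul, Module.End.mul_apply, Module.End.mul_apply, Module.End.mul_apply, h1,
      hc t _ (hnorm x hx), ← Module.End.mul_apply, ← map_mul, inv_mul_cancel, map_one, Module.End.one_apply]
  have hyall : ∀ a b : Fin (k + 1 + 1) → F, yG hn (wd a b) ∈ K := fun a b => by
    by_cases h0 : wd a b = 0
    · have h := yG_add hn (0 : AltM F (k + 1 + 1)) 0
      rw [add_zero] at h
      rw [h0, left_eq_mul.mp h]; exact one_mem _
    obtain ⟨g, s, ha, hb⟩ := exists_pair (by omega) h0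
    have e := lvG_conj_y hn g.transpose⁻¹ (wd (Pi.single 0 (1 : F)) (Pi.single 1 1))
    rw [inv_inv, show (g.transpose : Matrix (Fin (k + 1 + 1)) (Fin (k + 1 + 1)) F) =
      (g : Matrix (Fin (k + 1 + 1)) (Fin (k + 1 + 1)) F)ᵀ from rfl, transpose_transpose, cg_wd, ha, hb, wd_add_right,
      wd_smul_right, wd_self, smul_zero, add_zero] at e
    rw [← e]
    have hl : lvG hn g.transpose⁻¹ ∈ K := fun x hx => hc _ x hx
    exact K.mul_mem (K.mul_mem hl hy01) (K.inv_mem hl)
  have hK : K = ⊤ := eq_top_of_gens hn (fun A x hx => (mem_Eg_zero hn ρ).mp hx A) (fun A => by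
    induction A using alt_induction with
    | h0 =>
      have h := yG_add hn (0 : AltM F (k + 1 + 1)) 0
      rw [add_zero] at h
      rw [left_eq_mul.mp h]; exact one_mem _
    | hadd A B hA hB => rw [yG_add]; exact mul_mem hA hB
    | hgen i j c _ => exact hyall _ _) fun i j hij c x hx => hc _ x hx
  have hne : W ≠ ⊥ := fun h => ff_ne_zero hn ρ hirr hd hk hq hs (by rw [ff, ← hW, h, finrank_bot])
  obtain ⟨x, hx, hx0⟩ := Submodule.exists_mem_ne_zero_of_ne_bot hne
  have := dim_one_of_fixed ρ hirr hx0 fun g => (hK ▸ Subgroup.mem_top g : g ∈ K) x hx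
  omega

theorem ff_lower : S (Fintype.card F) (k + 1 + 1) - 1 ≤ ff hn ρ := by
  classical
  set W := Eg hn ρ 0 with hW
  let H := Matrix.SpecialLinearGroup (Fin (k + 1 + 1)) F
  let σ : H →* Module.End ℂ M := ρ.comp (lvG hn)
  let Fx : Submodule ℂ M := ⨅ g : H, LinearMap.ker (σ g - 1)
  have hFx : ∀ x, x ∈ Fx ↔ ∀ g, σ g x = x := fun x => by simp [Fx, Submodule.mem_iInf, sub_eq_zero]
  have hWinv : ∀ g : H, ∀ x ∈ W, σ g x ∈ W := fun g x hx =>
    map_Eg hn ρ (Matrix.SpecialLinearGroup.toGL g) (lvI_mem hn g) 0 (by rwa [LinearMap.zero_comp])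
  obtain ⟨T, hT⟩ := Cfsg.Lib.Chars.exists_isCompl_subrep (σ : Representation ℂ H M)
    { toSubmodule := W ⊓ Fx, apply_mem_toSubmodule := fun g v hv => by
        have h2 := (hFx v).mp hv.2
        show σ g v ∈ W ⊓ Fx
        rw [h2 g]; exact hv }
  set X := W ⊓ T.toSubmodule with hX
  have hXinv : ∀ g : H, ∀ x ∈ X, σ g x ∈ X := fun g x hx => ⟨hWinv g x hx.1, T.apply_mem_toSubmodule g hx.2⟩
  have hnf : ∀ x ∈ X, (∀ g : H, σ g x = x) → x = 0 := fun x hx h =>
    (Submodule.mem_bot ℂ).mp (hT.inf_eq_bot.le ⟨⟨hx.1, (hFx x).mpr h⟩, hx.2⟩)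
  have hX0 : X ≠ ⊥ := fun h => by
    obtain ⟨g, x, hx, hne⟩ := moved hn ρ hirr hd hk hq hs
    apply hne
    have hsup : W ⊓ Fx ⊔ X = W := by
      rw [hX, inf_comm W T.toSubmodule, ← sup_inf_assoc_of_le _ (inf_le_left : W ⊓ Fx ≤ W), hT.sup_eq_top, top_inf_eq]
    rw [h, sup_bot_eq] at hsup
    exact (hFx x).mp (hsup.symm ▸ hx : x ∈ W ⊓ Fx).2 g
  obtain ⟨Y, hY, hYX, hY0, hYirr⟩ := exists_minimal σ hXinv hX0
  have h2 := two_le_of_nofix σ (Cfsg.Lib.Classical.SL_commutator_eq_top (by rw [Fintype.card_fin]; omega)) hY hY0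
    fun x hx => hnf x (hYX hx)
  have hb := main_bound.{u, v} (F := F) (k + 1) (by omega) ⟨by omega, by omega⟩ Y (subRep σ Y hY) hYirr h2
  exact hb.trans (Submodule.finrank_mono (hYX.trans inf_le_left))

end Cfsg.Lib.OrthMinDeg
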