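import Cfsg.Agent.Known.OrthMinDegree.Elements
import Cfsg.Agent.Known.OrthTwoGen.Rel

/-! The elements in the group `Ω⁺`, the exchange of one coordinate pair, and generation. -/

set_option autoImplicit false
set_option linter.unusedSectionVars false
set_option linter.style.haveILetI false

open Matrix Cfsg.Lib.Classical Cfsg.Lib.Classical.Refl Cfsg.Lib.Classical.HypQuad Cfsg.Lib.SLMinDeg

namespace Cfsg.Lib.OrthMinDeg

variable {F : Type*} [Field F] [Fintype F] {n : ℕ}

variable (F n) in
/-- The group `Ω⁺`. -/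
abbrev OmP := ↥(Cfsg.Omega F (⇑(plusForm n F)))

variable (hn : 3 ≤ n)

/-- The upper unipotent element. -/
def xG (A : AltM F n) : OmP F n := ⟨xI A, xI_mem hn A⟩

/-- The lower unipotent element. -/
def yG (A : AltM F n) : OmP F n := ⟨yI A, yI_mem hn A⟩

/-- The Levi elements. -/
def lvG : Matrix.SpecialLinearGroup (Fin n) F →* OmP F n :=
  (lvI.comp Matrix.SpecialLinearGroup.toGL).codRestrict _ (lvI_mem hn)

/-- A Siegel transformation. -/
noncomputable def sgG {u z : Fin n ⊕ Fin n → F} (hu : plusForm n F u = 0)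
    (huz : QuadraticMap.polar (⇑(plusForm n F)) u z = 0) : OmP F n :=
  ⟨siegelG (plusForm n F) hu huz, siegel_mem hn hu huz⟩

theorem xG_add (A B : AltM F n) : xG hn (A + B) = xG hn A * xG hn B := Subtype.ext (xI_add A B)

theorem yG_add (A B : AltM F n) : yG hn (A + B) = yG hn A * yG hn B := Subtype.ext (yI_add A B)

theorem coe_lvG (g : Matrix.SpecialLinearGroup (Fin n) F) :
    ((lvG hn g : OmP F n) : Cfsg.isometryGroup F (⇑(plusForm n F))) = lvI (Matrix.SpecialLinearGroup.toGL g) := rfl

theorem lvG_conj_x (g : Matrix.SpecialLinearGroup (Fin n) F) (A : AltM F n) :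
    lvG hn g * xG hn A * (lvG hn g)⁻¹ = xG hn (cg (g : Matrix (Fin n) (Fin n) F) A) :=
  Subtype.ext (lvI_conj_x _ A)

theorem lvG_conj_y (g : Matrix.SpecialLinearGroup (Fin n) F) (A : AltM F n) :
    lvG hn g * yG hn A * (lvG hn g)⁻¹ =
      yG hn (cg ((g⁻¹ : Matrix.SpecialLinearGroup (Fin n) F) : Matrix (Fin n) (Fin n) F)ᵀ A) := by
  refine Subtype.ext ((lvI_conj_y _ A).trans ?_)
  rw [← map_inv]
  rfl

theorem sgG_congr {u u' z z' : Fin n ⊕ Fin n → F} {hu : plusForm n F u = 0}
    {huz : QuadraticMap.polar (⇑(plusForm n F)) u z = 0} {hu' : plusForm n F u' = 0}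
    {huz' : QuadraticMap.polar (⇑(plusForm n F)) u' z' = 0} (eu : u = u') (ez : z = z') :
    sgG hn hu huz = sgG hn hu' huz' := by subst eu ez; rfl

theorem sgG_smul {u z : Fin n ⊕ Fin n → F} (c : F) {hu : plusForm n F (c • u) = 0}
    {huz : QuadraticMap.polar (⇑(plusForm n F)) (c • u) z = 0} {hu' : plusForm n F u = 0}
    {huz' : QuadraticMap.polar (⇑(plusForm n F)) u (c • z) = 0} :
    sgG hn hu huz = sgG hn hu' huz' := Subtype.ext (ext_mulVec _ fun v => by
  show mat _ (siegelG _ hu huz) *ᵥ v = mat _ (siegelG _ hu' huz') *ᵥ v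
  rw [mat_siegelG, mat_siegelG, OrthTwoGen.siegel_smul_left])

theorem sgG_swap {u z : Fin n ⊕ Fin n → F} {hu : plusForm n F u = 0}
    {huz : QuadraticMap.polar (⇑(plusForm n F)) u z = 0} {hz : plusForm n F z = 0}
    {hzu : QuadraticMap.polar (⇑(plusForm n F)) z (-u) = 0} : sgG hn hu huz = sgG hn hz hzu :=
  Subtype.ext (ext_mulVec _ fun v => by
    show mat _ (siegelG _ hu huz) *ᵥ v = mat _ (siegelG _ hz hzu) *ᵥ v
    rw [mat_siegelG, mat_siegelG]
    funext i
    simp only [siegelMap, hz, QuadraticMap.map_neg, hu, QuadraticMap.polar_neg_left, Pi.add_apply, Pi.smul_apply,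
      Pi.neg_apply, smul_eq_mul]
    ring)

theorem inL_neg (a : Fin n → F) : inL (-a) = -inL a := by funext i; rcases i with i | i <;> simp [inL]

theorem inR_neg (a : Fin n → F) : inR (-a) = -inR a := by funext i; rcases i with i | i <;> simp [inR]

theorem inL_smul (c : F) (a : Fin n → F) : inL (c • a) = c • inL a := by
  funext i; rcases i with i | i <;> simp [inL]

theorem inR_smul (c : F) (a : Fin n → F) : inR (c • a) = c • inR a := by
  funext i; rcases i with i | i <;> simp [inR]

theorem inL_single (i : Fin n) (c : F) : inL (Pi.single i c) = c • inL (Pi.single i 1) := by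
  rw [← inL_smul, ← Pi.single_smul, smul_eq_mul, mul_one]

theorem inR_single (i : Fin n) (c : F) : inR (Pi.single i c) = c • inR (Pi.single i 1) := by
  rw [← inR_smul, ← Pi.single_smul, smul_eq_mul, mul_one]

theorem xG_wd (a b : Fin n → F) : xG hn (wd a b) = sgG hn (plus_inL b) (polar_inL_inL b a) :=
  Subtype.ext (xI_wd a b)

theorem yG_wd (a b : Fin n → F) : yG hn (wd a b) = sgG hn (plus_inR b) (polar_inR_inR b a) :=
  Subtype.ext (yI_wd a b)

theorem lvG_transvection {i j : Fin n} (hij : i ≠ j) (c : F) :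
    lvG hn (Matrix.SpecialLinearGroup.transvection hij c) =
      sgG hn (plus_inL (Pi.single i (-c))) (neg_single_dot hij c) := Subtype.ext (lvI_transvection hij c)

/-- The three kinds of elements generate `Ω`. -/
theorem eq_top_of_gens {K : Subgroup (OmP F n)} (hx : ∀ A, xG hn A ∈ K) (hy : ∀ A, yG hn A ∈ K)
    (hl : ∀ (i j : Fin n) (hij : i ≠ j) (c : F), lvG hn (Matrix.SpecialLinearGroup.transvection hij c) ∈ K) :
    K = ⊤ := by
  classical
  set K' := K.map (Cfsg.Omega F (⇑(plusForm n F))).subtype with hK'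
  set j0 : Fin n := ⟨0, by omega⟩
  have hSg : ∀ {u z : Fin n ⊕ Fin n → F} {hu : plusForm n F u = 0}
      {huz : QuadraticMap.polar (⇑(plusForm n F)) u z = 0}, sgG hn hu huz ∈ K → OrthTwoGen.Sg K' u z := by
    intro u z hu huz h
    exact ⟨_, Subgroup.mem_map.mpr ⟨_, h, rfl⟩, fun x => mat_siegelG _ hu huz x⟩
  have hLj : ∀ j : Fin n, OrthTwoGen.Rt K' (inL (Pi.single j0 1)) (inL (Pi.single j 1)) ∧
      OrthTwoGen.Rt K' (inR (Pi.single j0 1)) (inR (Pi.single j 1)) := fun j => by
    refine ⟨fun x => ?_, fun x => ?_⟩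
    · rw [← inL_single]
      exact hSg (hu := plus_inL _) (huz := polar_inL_inL _ _) (by rw [← xG_wd]; exact hx _)
    · rw [← inR_single]
      exact hSg (hu := plus_inR _) (huz := polar_inR_inR _ _) (by rw [← yG_wd]; exact hy _)
  have hMj : ∀ j : Fin n, j ≠ j0 → OrthTwoGen.Rt K' (inL (Pi.single j0 1)) (inR (Pi.single j 1)) ∧
      OrthTwoGen.Rt K' (inR (Pi.single j0 1)) (inL (Pi.single j 1)) := fun j hj => by
    have p0 : ∀ (a b : F), QuadraticMap.polar (⇑(plusForm n F)) (inL (Pi.single j0 a)) (inR (Pi.single j b)) = 0 :=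
      fun a b => by rw [polar_inL_inR, single_dotProduct, Pi.single_eq_of_ne hj.symm, mul_zero]
    refine ⟨fun x => ?_, fun x => ?_⟩
    · rw [← OrthTwoGen.Sg.smul_left_iff, ← inL_single]
      refine hSg (hu := plus_inL _) (huz := p0 _ _) ?_
      have := hl j0 j hj.symm (-x)
      rw [lvG_transvection] at this
      convert this using 1
      exact sgG_congr hn (by rw [neg_neg]) rfl
    · rw [← inL_single]
      refine hSg (hu := plus_inR _) (huz := by
        rw [QuadraticMap.polar_comm, polar_inL_inR, single_dotProduct, Pi.single_eq_of_ne hj, mul_zero]) ?_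
      have := hl j j0 hj x
      rw [lvG_transvection] at this
      convert this using 1
      rw [sgG_swap hn (hz := plus_inL _) (hzu := by
        rw [QuadraticMap.polar_neg_right, polar_inL_inR, single_dotProduct, Pi.single_eq_of_ne hj, mul_zero, neg_zero])]
      rw [sgG_congr hn (u' := (-1 : F) • inL (Pi.single j (-x))) (z' := -inR (Pi.single j0 1)) (hu' := by
          rw [QuadraticMap.map_smul, plus_inL, smul_zero]) (huz' := by
          rw [QuadraticMap.polar_smul_left, QuadraticMap.polar_neg_right, polar_inL_inR, single_dotProduct,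
            Pi.single_eq_of_ne hj, mul_zero, neg_zero, smul_zero]) ?_ rfl,
        sgG_smul hn (hu' := plus_inL _) (huz' := by
          rw [QuadraticMap.polar_smul_right, QuadraticMap.polar_neg_right, polar_inL_inR, single_dotProduct,
            Pi.single_eq_of_ne hj, mul_zero, neg_zero, smul_zero])]
      · exact sgG_congr hn rfl (by rw [neg_one_smul, neg_neg])
      · rw [neg_one_smul, ← inL_neg, ← Pi.single_neg, neg_neg]
  have hdec : ∀ z : Fin n ⊕ Fin n → F, z = ∑ i, (z (Sum.inl i) • inL (Pi.single i 1) +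
      z (Sum.inr i) • inR (Pi.single i 1)) := fun z => by
    funext i; rcases i with i | i <;> simp [Finset.sum_apply, inL, inR, Pi.single_apply]
  have he : inL (Pi.single j0 1) ∈ sCentres (plusForm n F) K' := by
    refine OrthTwoGen.mem_centres (plus_inL _) fun z hz => ?_
    rw [polar_inL_left, single_dotProduct, one_mul] at hz
    rw [hdec z]
    refine Submodule.sum_mem _ fun i _ => Submodule.add_mem _
      (Submodule.smul_mem _ _ ⟨polar_inL_inL _ _, (hLj i).1⟩) ?_
    by_cases hi : i = j0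
    · subst hi
      rw [show z (Sum.inr j0) = 0 from hz, zero_smul]; exact Submodule.zero_mem _
    · exact Submodule.smul_mem _ _ ⟨by rw [polar_inL_inR, single_dotProduct, Pi.single_eq_of_ne (Ne.symm hi),
        mul_zero], (hMj i hi).1⟩
  have hf : inR (Pi.single j0 1) ∈ sCentres (plusForm n F) K' := by
    refine OrthTwoGen.mem_centres (plus_inR _) fun z hz => ?_
    rw [polar_inR_left, single_dotProduct, one_mul] at hz
    rw [hdec z]
    refine Submodule.sum_mem _ fun i _ => Submodule.add_mem _ ?_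
      (Submodule.smul_mem _ _ ⟨polar_inR_inR _ _, (hLj i).2⟩)
    by_cases hi : i = j0
    · subst hi
      rw [show z (Sum.inl j0) = 0 from hz, zero_smul]; exact Submodule.zero_mem _
    · exact Submodule.smul_mem _ _ ⟨by rw [QuadraticMap.polar_comm, polar_inL_inR, single_dotProduct,
        Pi.single_eq_of_ne hi, mul_zero], (hMj i hi).2⟩
  have hle := OrthTwoGen.omega_le (plusForm_nondegenerate n) (card_idx hn) he hf (by
    rw [polar_inL_inR, single_dotProduct, Pi.single_eq_same, mul_one]; exact one_ne_zero)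
  rw [eq_top_iff]
  rintro g -
  obtain ⟨g', hg', e⟩ := hle g.2
  exact (Subtype.ext e : g' = g) ▸ hg'

/-! ### The exchange of the first pair -/

variable {k : ℕ}

theorem exists_swp : ∃ g : Cfsg.isometryGroup F (⇑(plusForm (k + 1 + 1) F)), ∀ x,
    mat (plusForm (k + 1 + 1) F) g *ᵥ x = x ∘ Equiv.swap (Sum.inl 0) (Sum.inr 0) := by
  refine exists_of_equiv _ (LinearEquiv.funCongrLeft F F (Equiv.swap (Sum.inl 0) (Sum.inr 0))) fun x => ?_
  rw [plusForm_apply, plusForm_apply]
  refine Finset.sum_congr rfl fun i _ => ?_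
  show x (Equiv.swap _ _ _) * x (Equiv.swap _ _ _) = _
  by_cases hi : i = 0
  · subst hi; rw [Equiv.swap_apply_left, Equiv.swap_apply_right, mul_comm]
  · rw [Equiv.swap_apply_of_ne_of_ne (by simp [hi]) (by simp),
      Equiv.swap_apply_of_ne_of_ne (by simp) (by simp [hi])]

/-- The isometry exchanging the first pair. -/
noncomputable def swp : Cfsg.isometryGroup F (⇑(plusForm (k + 1 + 1) F)) := exists_swp.choose

theorem mat_swp (x : Fin (k + 1 + 1) ⊕ Fin (k + 1 + 1) → F) :
    mat (plusForm (k + 1 + 1) F) swp *ᵥ x = x ∘ Equiv.swap (Sum.inl 0) (Sum.inr 0) := exists_swp.choose_spec x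

/-- Conjugation by the exchange. -/
noncomputable def sig : OmP F (k + 1 + 1) ≃* OmP F (k + 1 + 1) := MulAut.conjNormal swp

variable (hk : 3 ≤ k + 1 + 1)

theorem sig_sgG {u u' z z' : Fin (k + 1 + 1) ⊕ Fin (k + 1 + 1) → F} {hu : plusForm _ F u = 0}
    {huz : QuadraticMap.polar (⇑(plusForm (k + 1 + 1) F)) u z = 0} {hu' : plusForm _ F u' = 0}
    {huz' : QuadraticMap.polar (⇑(plusForm (k + 1 + 1) F)) u' z' = 0}
    (eu : u ∘ Equiv.swap (Sum.inl 0) (Sum.inr 0) = u') (ez : z ∘ Equiv.swap (Sum.inl 0) (Sum.inr 0) = z') :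
    sig (sgG hk hu huz) = sgG hk hu' huz' := by
  refine Subtype.ext ?_
  show swp * siegelG _ hu huz * swp⁻¹ = siegelG _ hu' huz'
  rw [siegelG_conj]
  exact siegelG_congr _ _ _ _ (by rw [mat_swp, eu]) (by rw [mat_swp, ez])

theorem swap_inL_zero (c : F) :
    inL (Pi.single (0 : Fin (k + 1 + 1)) c) ∘ Equiv.swap (Sum.inl 0) (Sum.inr 0) = inR (Pi.single 0 c) := by
  funext i
  rcases i with i | i <;> by_cases hi : i = 0 <;>
    simp [hi, inL, inR, Equiv.swap_apply_def]

theorem swap_inR_zero (c : F) :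
    inR (Pi.single (0 : Fin (k + 1 + 1)) c) ∘ Equiv.swap (Sum.inl 0) (Sum.inr 0) = inL (Pi.single 0 c) := by
  funext i
  rcases i with i | i <;> by_cases hi : i = 0 <;>
    simp [hi, inL, inR, Equiv.swap_apply_def]

theorem swap_inL {j : Fin (k + 1 + 1)} (hj : j ≠ 0) (c : F) :
    inL (Pi.single j c) ∘ Equiv.swap (Sum.inl 0) (Sum.inr 0) = inL (Pi.single j c) := by
  funext i
  rcases i with i | i <;> by_cases hi : i = 0 <;>
    simp [hi, inL, Equiv.swap_apply_def, Pi.single_apply, hj, Ne.symm hj]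

theorem swap_inR {j : Fin (k + 1 + 1)} (hj : j ≠ 0) (c : F) :
    inR (Pi.single j c) ∘ Equiv.swap (Sum.inl 0) (Sum.inr 0) = inR (Pi.single j c) := by
  funext i
  rcases i with i | i <;> by_cases hi : i = 0 <;>
    simp [hi, inR, Equiv.swap_apply_def, Pi.single_apply, hj, Ne.symm hj]

theorem sig_xG_off {i j : Fin (k + 1 + 1)} (hi : i ≠ 0) (hj : j ≠ 0) (c : F) :
    sig (xG hk (wd (Pi.single i c) (Pi.single j 1))) = xG hk (wd (Pi.single i c) (Pi.single j 1)) := by
  rw [xG_wd]
  exact sig_sgG hk (swap_inL hj 1) (swap_inL hi c)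

theorem sig_xG_zero {j : Fin (k + 1 + 1)} (hj : j ≠ 0) (c : F) :
    sig (xG hk (wd (Pi.single 0 c) (Pi.single j 1))) = lvG hk (Matrix.SpecialLinearGroup.transvection hj (-c)) := by
  rw [xG_wd, sig_sgG hk (hu' := plus_inL _) (huz' := by
      rw [polar_inL_inR, single_dotProduct, Pi.single_eq_of_ne hj, mul_zero]) (swap_inL hj 1) (swap_inL_zero c),
    lvG_transvection,
    sgG_congr hk (u := inL (Pi.single j (- -c))) (u' := c • inL (Pi.single j 1)) (hu' := by
      rw [QuadraticMap.map_smul, plus_inL, smul_zero]) (huz' := by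
      rw [QuadraticMap.polar_smul_left, polar_inL_inR, single_dotProduct, Pi.single_eq_of_ne hj, mul_zero, smul_zero])
      (by rw [neg_neg, ← inL_single]) rfl,
    sgG_smul hk (hu' := plus_inL _) (huz' := by
      rw [QuadraticMap.polar_smul_right, polar_inL_inR, single_dotProduct, Pi.single_eq_of_ne hj, mul_zero, smul_zero])]
  exact sgG_congr hk rfl (inR_single _ _)

theorem sig_lv_lower {j : Fin (k + 1 + 1)} (hj : j ≠ 0) (c : F) :
    sig (lvG hk (Matrix.SpecialLinearGroup.transvection hj c)) =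
      xG hk (wd (Pi.single 0 1) (Pi.single j (-c))) := by
  rw [lvG_transvection, xG_wd]
  exact sig_sgG hk (swap_inL hj (-c)) (swap_inR_zero 1)

theorem sig_yG_zero {j : Fin (k + 1 + 1)} (hj : j ≠ 0) :
    sig (yG hk (wd (Pi.single 0 (1 : F)) (Pi.single j 1))) =
      lvG hk (Matrix.SpecialLinearGroup.transvection hj.symm (1 : F)) := by
  rw [yG_wd, sig_sgG hk (hu' := plus_inR _) (huz' := by
      rw [QuadraticMap.polar_comm, polar_inL_inR, single_dotProduct, Pi.single_eq_of_ne hj.symm, mul_zero])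
      (swap_inR hj 1) (swap_inR_zero 1),
    sgG_swap hk (hz := plus_inL _) (hzu := by
      rw [QuadraticMap.polar_neg_right, polar_inL_inR, single_dotProduct, Pi.single_eq_of_ne hj.symm, mul_zero, neg_zero]),
    lvG_transvection,
    sgG_congr hk (u := inL (Pi.single 0 (-1))) (u' := (-1 : F) • inL (Pi.single 0 1)) (hu' := by
      rw [QuadraticMap.map_smul, plus_inL, smul_zero]) (huz' := by
      rw [QuadraticMap.polar_smul_left, polar_inL_inR, single_dotProduct, Pi.single_eq_of_ne hj.symm, mul_zero,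
        smul_zero]) (inL_single _ _) rfl,
    sgG_smul hk (hu' := plus_inL _) (huz' := by
      rw [QuadraticMap.polar_smul_right, polar_inL_inR, single_dotProduct, Pi.single_eq_of_ne hj.symm, mul_zero,
        smul_zero])]
  exact sgG_congr hk rfl (by rw [neg_one_smul])

end Cfsg.Lib.OrthMinDeg
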