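import Cfsg.Agent.Known.OrthMinDegree.Class
import Cfsg.Agent.Known.SLMinDegree.Sub
import Cfsg.Agent.Known.SLMinDegree.Gen

/-! The restriction of a small representation of `Ω⁺` to the abelian unipotent radical. -/

set_option autoImplicit false
set_option linter.unusedSectionVars false
set_option linter.style.haveILetI false

open Matrix Cfsg.Lib.Classical Cfsg.Lib.Classical.Refl Cfsg.Lib.Classical.HypQuad Cfsg.Lib.SLMinDeg

namespace Cfsg.Lib.OrthMinDeg

/-- The trace of an element of an abelian subgroup through the eigenspaces. -/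
theorem trace_eig {G M : Type*} [Group G] [AddCommGroup M] [Module ℂ M] [FiniteDimensional ℂ M]
    (ρ : G →* Module.End ℂ M) {A : Type*} [AddCommGroup A] [Fintype A] {f : A → G}
    (hf : ∀ a b, f (a + b) = f a * f b) (a : A) :
    LinearMap.trace ℂ M (ρ (f a)) =
      ∑ χ : AddChar A ℂ, χ a * (Module.finrank ℂ (RepEigen.eig ρ f χ) : ℂ) := by
  classical
  have hp : ∀ χ, LinearMap.IsProj (RepEigen.eig ρ f χ) (RepEigen.proj ρ f χ) := fun χ =>
    ⟨RepEigen.proj_mem_eig ρ hf χ, fun x hx => by rw [RepEigen.proj_apply_eig ρ hf hx, if_pos rfl]⟩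
  have e : ρ (f a) = ∑ χ : AddChar A ℂ, χ a • RepEigen.proj ρ f χ := LinearMap.ext fun x => by
    conv_lhs => rw [← RepEigen.sum_proj_apply ρ (f := f) (hom_zero hf) x]
    rw [map_sum, LinearMap.sum_apply]
    refine Finset.sum_congr rfl fun χ _ => ?_
    rw [LinearMap.smul_apply, (RepEigen.mem_eig ρ).mp (RepEigen.proj_mem_eig ρ hf χ x)]
  rw [e, map_sum]
  exact Finset.sum_congr rfl fun χ _ => by rw [map_smul, (hp χ).trace, smul_eq_mul]

universe u v

variable {F : Type u} [Field F] [Fintype F] {n : ℕ}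

noncomputable instance : Fintype (AltM F n) := Fintype.ofFinite _

noncomputable instance : Fintype (Module.Dual F (AltM F n)) :=
  @Fintype.ofFinite _ (Module.finite_of_finite F)

/-- The character of a functional. -/
noncomputable def chi (L : Module.Dual F (AltM F n)) : AddChar (AltM F n) ℂ :=
  psi0.compAddMonoidHom L.toAddMonoidHom

theorem chi_apply (L : Module.Dual F (AltM F n)) (A : AltM F n) : chi L A = psi0 (L A) := rfl

theorem chi_zero : chi (0 : Module.Dual F (AltM F n)) = 1 := by ext A; simp [chi_apply]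

theorem chi_injective : Function.Injective (chi : Module.Dual F (AltM F n) → AddChar (AltM F n) ℂ) := by
  intro L L' h
  refine LinearMap.ext fun A => AddChar.to_mulShift_inj_of_isPrimitive psi0_primitive (DFunLike.ext _ _ fun t => ?_)
  have := DFunLike.congr_fun h (t • A)
  rw [chi_apply, chi_apply, LinearMap.map_smul, LinearMap.map_smul, smul_eq_mul, smul_eq_mul] at this
  rw [AddChar.mulShift_apply, AddChar.mulShift_apply, mul_comm (L A), mul_comm (L' A)]
  exact this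

theorem chi_bijective : Function.Bijective (chi : Module.Dual F (AltM F n) → AddChar (AltM F n) ℂ) := by
  refine (Fintype.bijective_iff_injective_and_card _).mpr ⟨chi_injective, ?_⟩
  rw [AddChar.card_eq, ← Nat.card_eq_fintype_card, ← Nat.card_eq_fintype_card,
    Module.natCard_eq_pow_finrank (K := F), Module.natCard_eq_pow_finrank (K := F) (V := ↥(AltM F n)),
    Subspace.dual_finrank_eq]

variable {k : ℕ} {M : Type v} [AddCommGroup M] [Module ℂ M] [FiniteDimensional ℂ M] (hn : 3 ≤ k + 1 + 1)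
  (ρ : OmP F (k + 1 + 1) →* Module.End ℂ M)

/-- The eigenspace of a functional. -/
noncomputable def Eg (L : Module.Dual F (AltM F (k + 1 + 1))) : Submodule ℂ M :=
  RepEigen.eig ρ (xG hn) (chi L)

/-- The dimension of the fixed space of the unipotent radical. -/
noncomputable def ff : ℕ := Module.finrank ℂ (Eg hn ρ 0)

theorem mem_Eg_zero {x : M} : x ∈ Eg hn ρ 0 ↔ ∀ A, ρ (xG hn A) x = x := by
  simp [Eg, chi_zero, RepEigen.mem_eig]

theorem map_Eg (g : GL (Fin (k + 1 + 1)) F) (hg : lvI g ∈ Cfsg.Omega F (⇑(plusForm (k + 1 + 1) F)))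
    (L : Module.Dual F (AltM F (k + 1 + 1))) {x : M}
    (hx : x ∈ Eg hn ρ (L.comp (cg (g : Matrix (Fin (k + 1 + 1)) (Fin (k + 1 + 1)) F)))) :
    ρ ⟨lvI g, hg⟩ x ∈ Eg hn ρ L :=
  map_mem_eig ρ (fun A => cg (g : Matrix (Fin (k + 1 + 1)) (Fin (k + 1 + 1)) F) A)
    (fun B => ⟨cg ((g⁻¹ : GL (Fin (k + 1 + 1)) F) : Matrix (Fin (k + 1 + 1)) (Fin (k + 1 + 1)) F) B, by
      beta_reduce; rw [← cg_mul, det_ne', cg_one]⟩)
    (fun A => Subtype.ext (lvI_conj_x g A)) (fun _ => rfl) hx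

theorem finrank_Eg_comp {g : GL (Fin (k + 1 + 1)) F} (hg : g ∈ (Cfsg.Omega F (⇑(plusForm (k + 1 + 1) F))).comap lvI)
    (L : Module.Dual F (AltM F (k + 1 + 1))) :
    Module.finrank ℂ (Eg hn ρ (L.comp (cg (g : Matrix (Fin (k + 1 + 1)) (Fin (k + 1 + 1)) F)))) =
      Module.finrank ℂ (Eg hn ρ L) := by
  refine le_antisymm (finrank_le_of_map_mem ρ fun x hx => map_Eg hn ρ g hg L hx) ?_
  refine finrank_le_of_map_mem ρ (g := ⟨lvI g⁻¹, inv_mem hg⟩) fun x hx => map_Eg hn ρ g⁻¹ (inv_mem hg) _ ?_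
  rw [comp_cg_mul, det_ne', comp_cg_one]
  exact hx

theorem sum_Eg : ∑ L, Module.finrank ℂ (Eg hn ρ L) = Module.finrank ℂ M := by
  rw [← sum_finrank_eig ρ (f := xG hn) (xG_add hn), ← Function.Bijective.sum_comp chi_bijective]
  rfl

theorem nondec_bound (hk : 2 ≤ k) (hq : 3 < Fintype.card F) {L : Module.Dual F (AltM F (k + 1 + 1))} (hL : L ≠ 0)
    (hD : ¬ Dec L) (hne : Eg hn ρ L ≠ ⊥) :
    2 * ((Fintype.card F ^ (k + 1) - 1) * Fintype.card F ^ k) ≤ Module.finrank ℂ M := by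
  classical
  obtain ⟨μ, hμ0, hμ⟩ := exists_pow_ne_one (F := F) (k := 2) (fun h => by
    have := Nat.le_of_dvd (by norm_num) h; omega)
  rw [sq] at hμ
  refine (large_orbit (by omega) ((Cfsg.Omega F (⇑(plusForm (k + 1 + 1) F))).comap lvI) (fun g => lvI_mem hn g)
    hμ hμ0 (fun j => exists_dil_lv hn j hμ0) hL hD).trans ?_
  rw [← sum_Eg hn ρ, Nat.card_eq_fintype_card, Fintype.card_subtype, Finset.card_eq_sum_ones]
  refine (Finset.sum_le_sum fun L' hL' => ?_).trans (Finset.sum_le_sum_of_subset (Finset.subset_univ _))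
  obtain ⟨g, hg, rfl⟩ := (Finset.mem_filter.mp hL').2
  rw [finrank_Eg_comp hn ρ hg]
  exact Nat.one_le_iff_ne_zero.mpr fun h => hne (Submodule.finrank_eq_zero.mp h)

theorem finrank_Eg_dec (hk : 1 ≤ k) {L : Module.Dual F (AltM F (k + 1 + 1))} (hL : Dec L) :
    Module.finrank ℂ (Eg hn ρ L) =
      Module.finrank ℂ (Eg hn ρ (luv (Pi.single 0 1) (Pi.single 1 1))) := by
  obtain ⟨g, rfl⟩ := exists_dec_move hk hL
  exact finrank_Eg_comp hn ρ (g := Matrix.SpecialLinearGroup.toGL g) (lvI_mem hn g) _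

variable (hirr : IsIrr ρ) (hd : 2 ≤ Module.finrank ℂ M)

include hirr in
theorem dim_one_of_fixed {x : M} (hx0 : x ≠ 0) (hfix : ∀ g, ρ g x = x) : Module.finrank ℂ M = 1 := by
  rcases hirr (Submodule.span ℂ {x}) (fun g y hy => by
    obtain ⟨c, rfl⟩ := Submodule.mem_span_singleton.mp hy
    rw [map_smul, hfix]; exact hy) with h | h
  · exact absurd (Submodule.span_singleton_eq_bot.mp h) hx0
  · rw [← finrank_top ℂ M, ← h, finrank_span_singleton hx0]

include hirr hd in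
theorem not_fixed {x : M} (hx0 : x ≠ 0) : fixSub ρ ({x} : Set M) ≠ ⊤ := fun h => by
  have := dim_one_of_fixed ρ hirr hx0 fun g => (h ▸ Subgroup.mem_top g : g ∈ fixSub ρ ({x} : Set M)) x rfl
  omega

include hirr hd in
theorem std_ne_one (hk : 2 ≤ k) : ρ (piP hn (stdPair (F := F) (k := k))) ≠ 1 := by
  intro h0
  have hker : ρ.ker = ⊤ := normal_eq_top hn hk (MonoidHom.mem_ker.mpr h0)
  haveI : Nontrivial M := Module.nontrivial_of_finrank_pos (by omega : 0 < Module.finrank ℂ M)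
  obtain ⟨x, hx0⟩ := exists_ne (0 : M)
  have := dim_one_of_fixed ρ hirr hx0 fun g => by
    rw [show ρ g = 1 from MonoidHom.mem_ker.mp (hker ▸ Subgroup.mem_top g)]; rfl
  omega

variable (F k) in
/-- The bound times `q² - 1`. -/
def D0 : ℕ := (Fintype.card F ^ (k + 1 + 1) - 1) * (Fintype.card F ^ (k + 1) + Fintype.card F)

theorem q_cube_le (hk : 2 ≤ k) : Fintype.card F ^ 3 ≤ Fintype.card F ^ (k + 1) :=
  Nat.pow_le_pow_right Fintype.card_pos (by omega)

include hirr hd in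
/-- A small representation has the decomposable weights with multiplicity one, and no other. -/
theorem shape (hk : 2 ≤ k) (hq : 3 < Fintype.card F)
    (hs : (Fintype.card F ^ 2 - 1) * Module.finrank ℂ M < D0 F k) :
    Module.finrank ℂ M = ff hn ρ + Nat.card {L : Module.Dual F (AltM F (k + 1 + 1)) // Dec L} ∧
      (∀ L : Module.Dual F (AltM F (k + 1 + 1)), Dec L → Module.finrank ℂ (Eg hn ρ L) = 1) ∧
      ∀ L : Module.Dual F (AltM F (k + 1 + 1)), L ≠ 0 → ¬ Dec L → Eg hn ρ L = ⊥ := by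
  classical
  set q := Fintype.card F with hqdef
  have hx3 : q ^ 3 ≤ q ^ (k + 1) := q_cube_le hk
  have hz : ∀ L : Module.Dual F (AltM F (k + 1 + 1)), L ≠ 0 → ¬ Dec L → Eg hn ρ L = ⊥ := by
    intro L hL hD
    by_contra hne
    have h := nondec_bound hn ρ hk hq hL hD hne
    rw [← hqdef] at h
    have h' := Nat.mul_le_mul_left (q ^ 2 - 1) h
    rw [D0, ← hqdef, pow_succ q (k + 1)] at hs
    obtain ⟨y, hy⟩ : ∃ y, q ^ k = y := ⟨_, rfl⟩
    rw [pow_succ q k, hy] at h' hs hx3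
    have h1 : 1 ≤ q ^ 2 := Nat.one_le_pow _ _ (by omega)
    have hy1 : q ^ 2 ≤ y := hy ▸ Nat.pow_le_pow_right (by omega) hk
    have hy0 : 0 < y := lt_of_lt_of_le (by positivity) hy1
    have h2 : 1 ≤ y * q := Nat.mul_pos hy0 (by omega)
    have h3 : 1 ≤ y * q * q := Nat.mul_pos h2 (by omega)
    zify [h1, h2, h3] at h' hs
    have hq' : (4 : ℤ) ≤ q := by exact_mod_cast hq
    have hy' : (q : ℤ) ^ 2 ≤ y := by exact_mod_cast hy1
    have e1 : (0 : ℤ) ≤ (q : ℤ) ^ 3 - 2 * q := by nlinarith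
    have e2 : (0 : ℤ) ≤ ((q : ℤ) ^ 3 - 2 * q) * q ^ 2 - q ^ 3 - 2 * q ^ 2 + q + 2 := by
      nlinarith [mul_le_mul_of_nonneg_left (pow_le_pow_left₀ (by norm_num) hq' 2) e1, sq_nonneg ((q : ℤ) - 4)]
    have hy0' : (0 : ℤ) ≤ y := by positivity
    nlinarith [mul_nonneg (mul_nonneg e1 hy0') (sub_nonneg.mpr hy'), mul_nonneg hy0' e2]
  set R := Module.finrank ℂ (Eg hn ρ (luv (Pi.single 0 1) (Pi.single 1 1) : Module.Dual F (AltM F (k + 1 + 1)))) with hR
  set N := Nat.card {L : Module.Dual F (AltM F (k + 1 + 1)) // Dec L} with hN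
  have hsum : ∀ φ : Module.Dual F (AltM F (k + 1 + 1)) → ℕ, (∀ L, L ≠ 0 → φ L ≠ 0 → Dec L) →
      ∑ L, φ L = φ 0 + ∑ L ∈ Finset.univ.filter Dec, φ L := fun φ hφ => by
    rw [← Finset.add_sum_erase _ _ (Finset.mem_univ (0 : Module.Dual F (AltM F (k + 1 + 1))))]
    congr 1
    refine (Finset.sum_subset (fun L hL => Finset.mem_erase.mpr ⟨(Finset.mem_filter.mp hL).2.1, Finset.mem_univ _⟩)
      fun L hL hL' => ?_).symm
    by_contra hc
    exact hL' (Finset.mem_filter.mpr ⟨Finset.mem_univ _, hφ L (Finset.mem_erase.mp hL).1 hc⟩)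
  have hdim : Module.finrank ℂ M = ff hn ρ + N * R := by
    rw [← sum_Eg hn ρ, hsum _ (fun L hL hc => by_contra fun hD => hc (by rw [hz L hL hD, finrank_bot])),
      Finset.sum_congr rfl fun L hL => finrank_Eg_dec hn ρ (by omega) (Finset.mem_filter.mp hL).2,
      Finset.sum_const, smul_eq_mul, hN, Nat.card_eq_fintype_card, Fintype.card_subtype]
    rfl
  have hR1 : R = 1 := by
    rcases Nat.lt_or_ge R 1 with h | h
    · exfalso
      have hR0 : R = 0 := by omega
      rw [hR0, mul_zero, add_zero] at hdim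
      have htop : Eg hn ρ 0 = ⊤ := Submodule.eq_top_of_finrank_eq hdim.symm
      refine std_ne_one hn ρ hirr hd hk (LinearMap.ext fun x => ?_)
      rw [piP_std]
      exact (mem_Eg_zero hn ρ).mp (htop ▸ Submodule.mem_top) _
    rcases Nat.lt_or_ge R 2 with h' | h'
    · omega
    exfalso
    have hc := card_dec (F := F) (k := k) (by omega)
    rw [← hN, ← hqdef] at hc
    have h2 : (q ^ 2 - 1) * (N * 2) ≤ (q ^ 2 - 1) * Module.finrank ℂ M :=
      Nat.mul_le_mul_left _ (hdim ▸ le_add_left (Nat.mul_le_mul_left _ h'))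
    rw [D0, ← hqdef] at hs
    have h3 : q * ((q ^ 2 - 1) * (N * 2)) < q * ((q ^ (k + 1 + 1) - 1) * (q ^ (k + 1) + q)) :=
      Nat.mul_lt_mul_of_pos_left (h2.trans_lt hs) (by omega)
    rw [show q * ((q ^ 2 - 1) * (N * 2)) = (N * (q * (q ^ 2 - 1))) * 2 by ring, hc, pow_succ q (k + 1)] at h3
    have hqle : q ≤ q ^ (k + 1) * q := Nat.le_mul_of_pos_left _ (by positivity)
    have h1x : 1 ≤ q ^ (k + 1) * q := le_trans (by omega) hqle
    have hq0 : 0 < q ^ (k + 1) * q - 1 := by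
      have : 2 ≤ q ^ (k + 1) * q := le_trans (by omega) hqle
      omega
    rw [mul_assoc, ← mul_assoc q, mul_comm q (q ^ (k + 1) * q - 1), mul_assoc] at h3
    have h4 := Nat.lt_of_mul_lt_mul_left h3
    zify [hqle] at h4
    have hq' : (4 : ℤ) ≤ q := by exact_mod_cast hq
    have hx' : (q : ℤ) ^ 3 ≤ (q : ℤ) ^ (k + 1) := by exact_mod_cast hx3
    have hx2 : (q : ℤ) + 2 ≤ (q : ℤ) ^ (k + 1) := by nlinarith
    nlinarith [mul_le_mul_of_nonneg_left hx2 (show (0 : ℤ) ≤ q by positivity)]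
  refine ⟨by rw [hdim, hR1, mul_one], fun L hL => ?_, hz⟩
  rw [finrank_Eg_dec hn ρ (by omega) hL, ← hR, hR1]

end Cfsg.Lib.OrthMinDeg
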